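import Cfsg.Agent.UGT.Q2K.DDEnd

/-!
# THEOREM Q2 (#13005), (DD), second part: the statement over `Q2.Cfg`, `Q2.Half`
-/

set_option autoImplicit false

open Cfsg Subgroup
open Cfsg.Agent.SignalizersComponents Cfsg.Agent.Lib
open Cfsg.Agent.SignalizersComponents.IntrinsicBasic
open Cfsg.Agent.Intrinsic.Basic Cfsg.Agent.Intrinsic.Cen Cfsg.Agent.Intrinsic.Diag
open Cfsg.Agent.McLLyComp.Act
open Cfsg.Agent.UGT.Triple Cfsg.Agent.UGT.TriBase Cfsg.Agent.UGT.Iface
open scoped commutatorElement

namespace Cfsg.Agent.UGT.Q2K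

universe u

variable {G : Type u} [Group G] [Finite G]

theorem pump_of_side {a z f : G} {I M : Subgroup G} (S : Q2.Side a z f I M) : Pump f a z M I where
  aa := S.aa
  ca := S.fa
  zz := S.zz
  z1 := S.z1
  zM := S.zM
  compM := by
    rw [S.eq]
    exact (exists_diag S.comp (mem_c S.fa.symm) S.aa S.ne).1
  compN := S.comp
  cN := S.cI
  hor := Or.inr ⟨S.ne, S.eq⟩

/-- **(DD), second part.** -/
theorem dd_end {a z f v u w z1 : G} {Mf Me I J : Subgroup G} {q q0 : ℕ} (W : Q2.World G) (hH : Q2.HQ G q)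
    (C : Q2.Cfg a z f v u Mf Me I J) (H : Q2.Half a z v u J w z1)
    (ht : Fixes (a * z1 * a⁻¹) I) (hM : Q2.L2q q0 Me) (hq : q0 ^ 2 = q) (hni : ¬ IsInner v Me) {y : G}
    (hy : y = z ∨ y = v) (T : IsTriple y (f * z) J) : False := by
  have P1 := pump_of_side C.S1
  have P2 := pump_of_side C.S2
  have hzn : z1 ≠ 1 := by
    intro h
    apply C.S1.z1
    rw [H.hz, h]
    group
  have D : DE a f z v w z1 (a * z1 * a⁻¹) (f * z) Mf Me I J :=
    { P1 := P1
      P2 := P2
      n1 := C.S1.ne
      n2 := C.S2.ne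
      he := rfl
      ht := rfl
      hz := H.hz
      z1J := H.zJ
      wJ := H.wJ
      z11 := H.zz1
      ww := H.ww
      z1t := H.czz
      wz1 := H.wz
      wt := H.cwz
      w2z := H.czw
      w1 := by
        intro h
        obtain ⟨k, hk⟩ := H.ck
        apply hzn
        rw [← hk, h, mul_one, mul_one, mul_inv_cancel, one_pow]
      wz := by
        intro h
        obtain ⟨k, hk⟩ := H.ck
        apply hzn
        rw [← hk, h, H.vz1, mul_inv_cancel_right, H.zz1, one_pow]
      va := C.va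
      vf := C.vff
      vz := C.vz
      vz1 := H.vz1
      ff := C.S1.ff
      tI := ht
      vI := C.v_inner
      zI := C.z_inner
      vJ := C.vJ
      vMe := hni }
  exact D.false_of_triple W hH hM hq hy T

end Cfsg.Agent.UGT.Q2K
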