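import Cfsg.Agent.UGT.Q2K.Inner
import Cfsg.Agent.UGT.Q2.Mc
import Cfsg.Agent.UGT.Q2.FactsA7
import Cfsg.Agent.UGT.Q2.DDBase
import Cfsg.Agent.UAlt.ModExists
import Cfsg.Agent.UGT.L2Inner.WBStar

/-!
# THEOREM Q2 (#13005), (DD), second part: the centralizer of `t`

`P1 : Pump f a z Mf I`, `P2 : Pump (f * z) a z Me J`, both diagonal; `z = z₁ t`, `z₁ ∈ J`, `t = z₁^a` fixes `I`.
`DE.false`: contradiction.
-/

set_option autoImplicit false

open Cfsg Subgroup
open Cfsg.Agent.SignalizersComponents Cfsg.Agent.Lib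
open Cfsg.Agent.SignalizersComponents.IntrinsicBasic
open Cfsg.Agent.SignalizersComponents.PLayerAut
open Cfsg.Agent.Intrinsic.Basic Cfsg.Agent.Intrinsic.Cen Cfsg.Agent.Intrinsic.Diag
open Cfsg.Agent.McLLyComp.Act
open Cfsg.Agent.UGT.Triple Cfsg.Agent.UGT.TriBase Cfsg.Agent.UGT.Iface
open Cfsg.Agent.GH.L2Aut (Four)
open Cfsg.Agent.UGT.L2Inner (L2T)
open Cfsg.Agent.UGT.Q2 (L2q HQ IsMc FieldType)
open scoped commutatorElement

namespace Cfsg.Agent.UGT.Q2K

universe u

variable {G : Type u} [Group G]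

/-- the data of the second part of (DD); `e = f * z` -/
structure DE (a f z v w z1 t e : G) (Mf Me I J : Subgroup G) : Prop where
  P1 : Pump f a z Mf I
  P2 : Pump e a z Me J
  n1 : cj a I ≠ I
  n2 : cj a J ≠ J
  he : e = f * z
  ht : t = a * z1 * a⁻¹
  hz : z = z1 * t
  z1J : z1 ∈ J
  wJ : w ∈ J
  z11 : z1 * z1 = 1
  ww : w * w = 1
  z1t : z1 * t = t * z1
  wz1 : w * z1 = z1 * w
  wt : w * t = t * w
  w2z : z1 * (a * w * a⁻¹) = (a * w * a⁻¹) * z1
  w1 : w ≠ 1
  wz : w ≠ z1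
  va : v * a = a * v
  vf : v * f = f * v
  vz : v * z = z * v
  vz1 : v * z1 = z1 * v
  ff : f * f = 1
  tI : Fixes t I
  vI : IsInner v I
  zI : IsInner z I
  vJ : v ∈ normalizer (J : Set G)
  vMe : ¬ IsInner v Me

theorem center_of_alt {n : ℕ} (hn : 4 ≤ n) {K : Type*} [Group K] (h : IsAlt n K) : center K = ⊥ := by
  obtain ⟨e⟩ := h
  rw [eq_bot_iff]
  intro z hz
  have h1 : e z ∈ center (alternatingGroup (Fin n)) := by
    rw [mem_center_iff] at hz ⊢
    intro g
    obtain ⟨y, rfl⟩ := e.surjective g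
    rw [← map_mul, ← map_mul, hz y]
  rw [alternatingGroup.center_eq_bot (by rw [Nat.card_eq_fintype_card, Fintype.card_fin]; exact hn),
    mem_bot] at h1
  rw [mem_bot]
  exact e.injective (by rw [h1, map_one])

theorem fixes_of_comm' {K : Subgroup G} {g : G} (h : ∀ y ∈ K, y * g = g * y) : Fixes g K := by
  have hn : g ∈ normalizer (K : Set G) := by
    rw [mem_normalizer_iff]
    intro y
    constructor
    · intro hy
      rw [← h y hy, mul_inv_cancel_right]
      exact hy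
    · intro hy
      have h1 := h _ hy
      rw [inv_mul_cancel_right] at h1
      rw [mul_left_cancel h1]
      exact hy
  refine ⟨hn, fun y hy => ?_⟩
  rw [commutatorElement_def, ← h y hy, mul_inv_cancel_right, mul_inv_cancel]
  exact one_mem _

namespace DE

variable {a f z v w z1 t e : G} {Mf Me I J : Subgroup G} (D : DE a f z v w z1 t e Mf Me I J)

include D

theorem ai : a⁻¹ = a := inv_eq_of_mul_eq_one_left D.P1.aa

theorem fz : f * z = z * f := D.P1.zc.symm

theorem ef : e * f = f * e := by rw [D.he, mul_assoc, ← D.fz]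

theorem ee : e * e = 1 := by
  rw [D.he]
  exact sq_mul D.ff D.P1.zz D.fz

theorem fe : f = e * z := by rw [D.he, mul_assoc, D.P1.zz, mul_one]

theorem fe' : f = e * z1 * t := by
  rw [mul_assoc, ← D.hz]
  exact D.fe

theorem tJ' : t ∈ cj a J := by rw [D.ht]; exact conj_mem_cj D.z1J

theorem z1e : z1 * e = e * z1 := comm_c (D.P2.compN.le D.z1J)

theorem te : t * e = e * t := comm_c (D.P2.comp'.le D.tJ')

theorem tt : t * t = 1 := by
  rw [D.ht]
  calc a * z1 * a⁻¹ * (a * z1 * a⁻¹) = a * (z1 * z1) * a⁻¹ := by group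
    _ = 1 := by rw [D.z11]; group

theorem t1 : t ≠ 1 := by
  intro h
  have h1 : z1 = 1 := by
    have h2 := D.ht
    rw [h] at h2
    have h3 : a⁻¹ * 1 * a = z1 := by rw [h2]; group
    rw [← h3]
    group
  apply D.P1.z1
  rw [D.hz, h, h1, mul_one]

theorem ordt : orderOf t = 2 := by
  rw [orderOf_eq_prime_iff]
  exact ⟨by rw [pow_two]; exact D.tt, D.t1⟩

theorem tz : t * z = z * t := by rw [D.hz, ← mul_assoc, ← D.z1t]

theorem z1z : z1 * z = z * z1 := by rw [D.hz, mul_assoc, ← D.z1t]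

theorem tf : t * f = f * t := by
  rw [D.fe, ← mul_assoc, D.te, mul_assoc, D.tz, mul_assoc]

theorem z1f : z1 * f = f * z1 := by
  rw [D.fe, ← mul_assoc, D.z1e, mul_assoc, D.z1z, mul_assoc]

theorem z1n : z1 ≠ 1 := by
  intro h
  apply D.t1
  rw [D.ht, h]
  group

theorem ve : v * e = e * v := by rw [D.he, ← mul_assoc, D.vf, mul_assoc, D.vz, mul_assoc]

theorem vt : v * t = t * v := by
  rw [D.ht, D.ai]
  calc v * (a * z1 * a) = (v * a) * z1 * a := by group
    _ = a * (v * z1) * a := by rw [D.va]; group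
    _ = a * z1 * (v * a) := by rw [D.vz1]; group
    _ = a * z1 * a * v := by rw [D.va]; group

/-- `w₂ = w^a` -/
theorem w2J : a * w * a⁻¹ ∈ cj a J := conj_mem_cj D.wJ

theorem w2e : (a * w * a⁻¹) * e = e * (a * w * a⁻¹) := comm_c (D.P2.comp'.le D.w2J)

theorem w2t : (a * w * a⁻¹) * t = t * (a * w * a⁻¹) := by
  rw [D.ht]
  calc a * w * a⁻¹ * (a * z1 * a⁻¹) = a * (w * z1) * a⁻¹ := by group
    _ = _ := by rw [D.wz1]; group

theorem w2w2 : (a * w * a⁻¹) * (a * w * a⁻¹) = 1 := by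
  calc a * w * a⁻¹ * (a * w * a⁻¹) = a * (w * w) * a⁻¹ := by group
    _ = 1 := by rw [D.ww]; group

theorem w2n : a * w * a⁻¹ ≠ 1 := by
  intro h
  apply D.w1
  have h3 : a⁻¹ * (a * w * a⁻¹) * a = w := by group
  rw [← h3, h]
  group

theorem w2nt : a * w * a⁻¹ ≠ t := by
  intro h
  apply D.wz
  have h3 : a⁻¹ * (a * w * a⁻¹) * a = w := by group
  rw [← h3, h, D.ht]
  group

variable [Finite G]

theorem tJ : Fixes t J := D.P2.compN.fixes_of_mem D.P2.comp' D.n2.symm D.tJ'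

theorem w2fJ : Fixes (a * w * a⁻¹) J := D.P2.compN.fixes_of_mem D.P2.comp' D.n2.symm D.w2J

theorem cenJ : IsComp (centralizer ({t} : Set G) ⊓ centralizer ({e} : Set G)) (cen J t) := by
  rw [inf_comm]
  exact (isComp_cen D.P2.compN (mem_c D.te) D.tt D.tJ).1

theorem cenI : IsComp (centralizer ({t} : Set G) ⊓ centralizer ({f} : Set G)) (cen I t) := by
  rw [inf_comm]
  exact (isComp_cen D.P1.compN (mem_c D.tf) D.tt D.tI).1

theorem supJ : cen J t ⊔ core J = J := (isComp_cen D.P2.compN (mem_c D.te) D.tt D.tJ).2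

theorem supI : cen I t ⊔ core I = I := (isComp_cen D.P1.compN (mem_c D.tf) D.tt D.tI).2

omit [Finite G] in
theorem z1cen : z1 ∈ cen J t := mem_cen_of_sq D.z1J D.z1t D.z11

omit [Finite G] in
theorem fI : Fixes f I := fixes_of_comm' fun _ hy => comm_c (D.P1.compN.le hy)

omit [Finite G] in
theorem eJ : Fixes e J := fixes_of_comm' fun _ hy => comm_c (D.P2.compN.le hy)

/-- `e`, `v`, `e v` are inner on `I` -/
theorem eI : IsInner e I := by
  rw [D.he, isInner_mul_iff (isInner_of_fixes D.fI)]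
  exact D.zI

/-- `v`, `e v` are not inner on `J` -/
theorem vnJ : ¬ IsInner v J := by
  intro h
  apply D.vMe
  rcases D.P2.hor with ⟨h1, -⟩ | ⟨-, h2⟩
  · exact absurd (mem_normalizer_iff_cj.mp h1) D.n2
  · rw [h2]
    exact (inner_diag D.P2.compN D.P2.cN D.P2.aC D.P2.aa D.n2 (mem_c D.ve) D.va D.vJ).mp h

/-- `z₁` does not fix `I` -/
theorem z1I : ¬ Fixes z1 I := fun h => D.P1.not_fixes (by rw [D.hz]; exact fixes_mul h D.tI)

omit D [Finite G] in
theorem tN {N : Subgroup G} (hN : IsComp (centralizer ({t} : Set G)) N) : Fixes t N :=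
  fixes_of_comm' fun _ hy => comm_c (hN.le hy)

/-- **`e` moves `N`** -/
theorem caseA {N N' : Subgroup G} (P3 : Pump t e z1 (cen J t) N) (hne : cj e N ≠ N)
    (hNN : N' = N ∨ N' = cj e N) (hI : cen I t = diag (centralizer ({t} : Set G)) N' f)
    (hne' : cj f N' ≠ N') : False := by
  have hJ : cen J t = diag (centralizer ({t} : Set G)) N e := by
    rcases P3.hor with ⟨h1, -⟩ | ⟨-, h2⟩
    · exact absurd (mem_normalizer_iff_cj.mp h1) hne
    · exact h2
  obtain ⟨g, hgN, hgt, hge, hgf, hgJ, hgI, hgnJ⟩ : ∃ g, g ∈ normalizer (N : Set G) ∧ g * t = t * g ∧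
      g * e = e * g ∧ g * f = f * g ∧ g ∈ normalizer (J : Set G) ∧ IsInner g I ∧ ¬ IsInner g J := by
    rcases P3.perm D.vt D.vz1 with h | h
    · exact ⟨v, mem_normalizer_iff_cj.mpr h, D.vt, D.ve, D.vf, D.vJ, D.vI, D.vnJ⟩
    · refine ⟨e * v, mem_normalizer_iff_cj.mpr ?_, ?_, ?_, ?_, mul_mem D.eJ.1 D.vJ, isInner_mul D.eI D.vI, ?_⟩
      · rw [cj_mul, h, P3.cc]
      · rw [mul_assoc, D.vt, ← mul_assoc, ← D.te, mul_assoc]
      · rw [mul_assoc, D.ve]
      · rw [mul_assoc, D.vf, ← mul_assoc, D.ef, mul_assoc]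
      · rw [isInner_mul_iff (isInner_of_fixes D.eJ)]
        exact D.vnJ
  have hgN' : g ∈ normalizer (N' : Set G) := by
    rcases hNN with h | h
    · rw [h]
      exact hgN
    · rw [h, mem_normalizer_iff_cj, ← cj_mul, hge, cj_mul, mem_normalizer_iff_cj.mp hgN]
  have hN'c : IsComp (centralizer ({t} : Set G)) N' := by
    rcases hNN with h | h
    · rw [h]
      exact P3.compN
    · rw [h]
      exact P3.comp'
  have hN'z : center (↥N' ⧸ oddCore ↥N') = ⊥ := by
    rcases hNN with h | h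
    · rw [h]
      exact P3.cN
    · rw [h]
      exact center_cj P3.cN e
  have h1 : IsInner g (cen I t) := (inner_cen D.supI (isInner_norm hgI) hgt).mpr hgI
  have h2 : IsInner g N' := by
    rw [hI] at h1
    exact (inner_diag hN'c hN'z (mem_c D.tf.symm) D.ff hne' (mem_c hgt) hgf hgN').mpr h1
  have h3 : ¬ IsInner g N := by
    intro h
    apply hgnJ
    rw [← inner_cen D.supJ hgJ hgt, hJ]
    exact (inner_diag P3.compN P3.cN P3.aC P3.aa hne (mem_c hgt) hge hgN).mp h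
  rcases hNN with h | h
  · rw [h] at h2
    exact h3 h2
  · apply h3
    rw [h] at h2
    have h4 := isInner_cj h2 e⁻¹
    rw [cj_inv_cj] at h4
    convert h4 using 1
    rw [inv_inv, mul_assoc, hge, inv_mul_cancel_left]

/-- **`N / O(N) ≅ A₇`** -/
theorem caseA7 {N : Subgroup G} (P3 : Pump t e z1 (cen J t) N) (heN : e ∈ normalizer (N : Set G))
    (hEN : cen J t ≤ N) (hfN : f ∈ normalizer (N : Set G)) (hIN : cen I t ≤ N)
    (hT : IsAlt 7 (Bar N)) : False := by
  obtain ⟨eqv⟩ := hT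
  obtain ⟨M⟩ := UAlt.Mod.nonempty_of_equiv (K := N) (S := (Finset.univ : Finset (Fin 7)))
    (by rw [Finset.card_univ, Fintype.card_fin]) (Ω := Fin 7) (by rw [Finset.card_univ]) eqv
  have h7 : (Finset.univ : Finset (Fin 7)).card = 7 := by rw [Finset.card_univ, Fintype.card_fin]
  have hz1N : z1 ∈ N := hEN D.z1cen
  have htN : Fixes t N := tN P3.compN
  have hz1 : ¬ Fixes z1 N := P3.not_fixes
  have hQ : ∃ q ∈ cen I t, ¬ Fixes q N := by
    by_contra hcon
    push Not at hcon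
    exact D.cenI.not_odd (odd_card_core N) fun x hx => core_of_fixes P3.cN (hIN hx) (hcon x hx)
  have hact : M.φ f = M.φ e * M.φ z1 := by
    have h1 : M.φ t = 1 := (M.fixes_iff htN.1).mpr htN
    conv_lhs => rw [D.fe']
    rw [M.mul _ _ (mul_mem heN (le_normalizer hz1N)) htN.1, M.mul _ _ heN (le_normalizer hz1N), h1, mul_one]
  by_cases he : Fixes e N
  · have hf1 : M.φ f = M.φ z1 := by rw [hact, (M.fixes_iff heN).mpr he, one_mul]
    have h1 : ¬ Fixes f N := by
      rw [← M.fixes_iff hfN, hf1, M.fixes_iff (le_normalizer hz1N)]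
      exact hz1
    obtain ⟨i, j, hij, hs, -⟩ := Cfsg.Agent.UGT.Q2.FactsA7.mod_swap M h7 hfN D.ff h1 (hIN.trans le_normalizer)
      (fun p hp => comm_c (D.cenI.le hp).2) D.cenI.perfect hQ
    have h2 := M.mem_alt z1 hz1N
    rw [← hf1, hs] at h2
    have h3 : Equiv.Perm.sign (Equiv.swap i j) = 1 := h2.1
    rw [Equiv.Perm.sign_swap hij] at h3
    exact absurd h3 (by decide)
  · refine Cfsg.Agent.UGT.Q2.FactsA7.mod_no_two M h7 heN D.ee he (hEN.trans le_normalizer)
      (fun p hp => comm_c (D.cenJ.le hp).2) D.cenJ.perfect D.z1cen D.z11 hz1 (Q := cen I t) (hIN.trans le_normalizer)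
      (fun q hq => ?_) D.cenI.perfect hQ
    have h1 : e * z1 = f * t := by
      rw [D.fe', mul_assoc, D.tt, mul_one]
    have h2 := comm_c (D.cenI.le hq).1
    have h3 := comm_c (D.cenI.le hq).2
    rw [h1, ← mul_assoc, h3, mul_assoc, h2, mul_assoc]

end DE

theorem cent_of_mc [Finite G] {F : Type} [Field F] [Finite F] {N E : Subgroup G}
    {R : GH.L2Aut.Rep F (↥N ⧸ oddCore ↥N)} {e : G} (hM : IsMc N e E) (hee : e * e = 1)
    (hft : FieldType N R e) {g : G} (hg : g ∈ normalizer (N : Set G)) (hf : Fixes g E) :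
    act N ⟨g, hg⟩ = 1 ∨ ∃ he : e ∈ normalizer (N : Set G), act N ⟨g, hg⟩ = act N ⟨e, he⟩ := by
  obtain ⟨hcL, M₀, hd, hI⟩ := IsMc.exists_fd hM hee hft
  have h1 := hd.cent (act N ⟨g, hg⟩) (fun m hm => by
    obtain ⟨k, hk, hkL, rfl⟩ := hI.surj m hm
    rw [act_mk hg hkL, eq_comm, mk_eq_iff hkL (Cfsg.Agent.McLLyComp.Act.conj_mem hg hkL)]
    have h5 : ⁅g, k⁆ ∈ core N := by
      have h6 := hf.2 k hk
      rw [hI.core_eq] at h6
      exact h6.2
    have h6 := conj_core (N.inv_mem hkL) h5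
    have h7 : k⁻¹ * ⁅g, k⁆ * k⁻¹⁻¹ = k⁻¹ * (g * k * g⁻¹) := by
      rw [commutatorElement_def]
      group
    rwa [h7] at h6)
  rcases h1 with h1 | h1
  · exact Or.inl h1
  · exact Or.inr ⟨hcL, h1⟩

theorem card_L2q {q : ℕ} {K : Subgroup G} (h : L2q q K) :
    Nat.card (↥K ⧸ oddCore ↥K) * 2 = q * (q ^ 2 - 1) := by
  obtain ⟨F, _, _, rfl, ⟨R⟩⟩ := h
  exact R.card_mul_two

theorem q_unique {q0 q1 : ℕ} (h : q0 * (q0 ^ 2 - 1) = q1 * (q1 ^ 2 - 1)) (h0 : 1 < q0) (h1 : 1 < q1) : q0 = q1 := by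
  have key : ∀ m n : ℕ, 1 < m → m < n → m * (m ^ 2 - 1) < n * (n ^ 2 - 1) := by
    intro m n hm hmn
    have h2 : m ^ 2 - 1 ≤ n ^ 2 - 1 := Nat.sub_le_sub_right (Nat.pow_le_pow_left hmn.le 2) 1
    have h3 : 0 < n ^ 2 - 1 := by
      have : 1 < n ^ 2 := Nat.one_lt_pow (by norm_num) (hm.trans hmn)
      omega
    calc m * (m ^ 2 - 1) ≤ m * (n ^ 2 - 1) := Nat.mul_le_mul_left m h2
      _ < n * (n ^ 2 - 1) := Nat.mul_lt_mul_of_pos_right hmn h3
  rcases lt_trichotomy q0 q1 with h2 | h2 | h2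
  · exact absurd h (key _ _ h0 h2).ne
  · exact h2
  · exact absurd h.symm (key _ _ h1 h2).ne

theorem L2q_one_lt {q : ℕ} {K : Subgroup G} (h : L2q q K) : 1 < q := by
  obtain ⟨F, _, _, rfl, -⟩ := h
  exact Finite.one_lt_card

namespace DE

variable {a f z v w z1 t e : G} {Mf Me I J : Subgroup G} (D : DE a f z v w z1 t e Mf Me I J) [Finite G]

include D

theorem e_nmem (he1 : e ≠ 1) : e ∉ cj a J := by
  intro h
  have h1 : Fixes e (cj a J) := fixes_of_comm' fun _ hy => comm_c (D.P2.comp'.le hy)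
  exact he1 (eq_one_of_mem_core_sq (core_of_fixes (center_cj D.P2.cN a) h h1) D.ee)

/-- **`N / O(N) ≅ PSL(2,F)`** -/
theorem caseL2 {q q0 : ℕ} (hH : HQ G q) (hM : L2q q0 Me) (hq : q0 ^ 2 = q) {y : G} (hye : y * e = e * y)
    (he1 : e ≠ 1) {N : Subgroup G} (T3 : IsTriple y t N) (P3 : Pump t e z1 (cen J t) N)
    (heN : e ∈ normalizer (N : Set G)) (hEN : cen J t ≤ N) (hfN : f ∈ normalizer (N : Set G))
    (hIN : cen I t ≤ N) (hT : L2T N) : False := by
  obtain ⟨F, _, _, ⟨R⟩⟩ := hT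
  have hz1N : z1 ∈ N := hEN D.z1cen
  have htN : Fixes t N := tN P3.compN
  have hactf : act N ⟨f, hfN⟩ = act N ⟨e, heN⟩ * MulAut.conj (QuotientGroup.mk ⟨z1, hz1N⟩) := by
    have h1 := (act_eq_one_iff htN.1).mpr htN
    have h2 : (⟨f, hfN⟩ : ↥(normalizer (N : Set G))) = ⟨e, heN⟩ * ⟨z1, le_normalizer hz1N⟩ * ⟨t, htN.1⟩ :=
      Subtype.ext D.fe'
    rw [h2, map_mul, map_mul, h1, mul_one, act_of_mem hz1N]
  have hfe : R.fld (act N ⟨e, heN⟩) ≠ 1 := by
    rcases one_or_field R D.cenJ hEN heN D.ee (fun x hx => comm_c (D.cenJ.le hx).2) with h | h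
    · exfalso
      rcases one_or_field R D.cenI hIN hfN D.ff (fun x hx => comm_c (D.cenI.le hx).2) with h' | h'
      · apply P3.not_fixes
        rw [← act_eq_one_iff (le_normalizer hz1N), act_of_mem hz1N]
        rw [hactf, h, one_mul] at h'
        exact h'
      · apply h'
        rw [hactf, h, one_mul]
        exact R.mem_PGL_iff_fld.mp (R.conj_mem_PGL _)
    · exact h
  have hmc : IsMc N e (cen J t) :=
    D.cenJ.restrict (inf_le_inf_right _ P3.compN.le) (le_inf hEN (D.cenJ.le.trans inf_le_right))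
  have hft : FieldType N R e := ⟨heN, hfe⟩
  obtain ⟨q1, hq1, hqF⟩ := IsMc.l2q hmc D.ee hft
  have hq01 : q1 = q0 := by
    have h1 : Nat.card (↥(cen J t) ⧸ oddCore ↥(cen J t)) = Nat.card (↥J ⧸ oddCore ↥J) := card_cen D.supJ
    have hMe : Me = diag (centralizer ({e} : Set G)) J a := by
      rcases D.P2.hor with ⟨h1, -⟩ | ⟨-, h2⟩
      · exact absurd (mem_normalizer_iff_cj.mp h1) D.n2
      · exact h2
    have h2 : Nat.card (↥Me ⧸ oddCore ↥Me) = Nat.card (↥J ⧸ oddCore ↥J) := by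
      rw [hMe]
      exact card_diag D.P2.compN D.P2.cN D.P2.aC D.P2.aa D.n2
    have h3 := card_L2q hq1
    have h4 := card_L2q hM
    rw [h1] at h3
    rw [h2] at h4
    exact q_unique (h3.symm.trans h4) (L2q_one_lt hq1) (L2q_one_lt hM)
  have hLq : L2q q N := ⟨F, inferInstance, inferInstance, by rw [← hqF, hq01, hq], ⟨R⟩⟩
  have hee : act N ⟨e, heN⟩ * act N ⟨e, heN⟩ = 1 := by
    rw [← map_mul]
    have h1 : (⟨e, heN⟩ : ↥(normalizer (N : Set G))) * ⟨e, heN⟩ = 1 := Subtype.ext D.ee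
    rw [h1, map_one]
  have hyi : IsInner y N := by
    rw [isInner_iff T3.x_mem, R.mem_inn_iff]
    refine ⟨R.mem_PGL_iff_fld.mp (L2Inner.WBTriple.mem_PGL T3 R), ?_⟩
    refine R.o1_of_comm hee hfe ?_
    rw [← map_mul, ← map_mul]
    congr 1
    exact Subtype.ext hye
  have key : ∀ g : G, g * g = 1 → g ≠ 1 → g ≠ t → g * t = t * g → Fixes g N → False := by
    intro g h1 h2 h3 h4 h5
    have hF : Four t g := ⟨D.tt, h1, D.t1, h2, h3.symm, h4.symm⟩
    have h6 := hH y t N T3 hLq hyi hF.sub hF.sub_two (by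
      rintro x (rfl | rfl | rfl | rfl)
      · exact one_mem _
      · exact mem_c rfl
      · exact mem_c h4
      · exact mul_mem (mem_c rfl) (mem_c h4)) (by
      rintro x (rfl | rfl | rfl | rfl)
      · exact fixes_one N
      · exact htN
      · exact h5
      · exact fixes_mul htN h5)
    rw [L2Inner.card_four hF] at h6
    omega
  have hw2N : a * w * a⁻¹ ∈ normalizer (N : Set G) := by
    rw [mem_normalizer_iff_cj]
    rcases P3.perm D.w2t D.w2z.symm with h | h
    · exact h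
    · rw [h, mem_normalizer_iff_cj.mp heN]
  have hw2f : Fixes (a * w * a⁻¹) (cen J t) :=
    (fixes_iff_of_sup D.supJ (mem_normalizer_cen D.w2fJ.1 D.w2t) D.w2fJ.1).mpr D.w2fJ
  rcases cent_of_mc hmc D.ee hft hw2N hw2f with h | ⟨_, h⟩
  · exact key _ D.w2w2 D.w2n D.w2nt D.w2t ((act_eq_one_iff hw2N).mp h)
  · have h1 : (a * w * a⁻¹ * e) * (a * w * a⁻¹ * e) = 1 := by
      calc (a * w * a⁻¹ * e) * (a * w * a⁻¹ * e) = (a * w * a⁻¹) * (e * (a * w * a⁻¹)) * e := by group
        _ = (a * w * a⁻¹ * (a * w * a⁻¹)) * (e * e) := by rw [← D.w2e]; group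
        _ = 1 := by rw [D.w2w2, D.ee, one_mul]
    refine key (a * w * a⁻¹ * e) h1 ?_ ?_ ?_ ?_
    · intro h2
      apply D.e_nmem he1
      have h3 : e = (a * w * a⁻¹)⁻¹ := (inv_eq_of_mul_eq_one_right h2).symm
      rw [h3]
      exact inv_mem D.w2J
    · intro h2
      apply D.e_nmem he1
      have h3 : e = (a * w * a⁻¹)⁻¹ * t := by rw [← h2]; group
      rw [h3]
      exact mul_mem (inv_mem D.w2J) D.tJ'
    · rw [mul_assoc, ← D.te, ← mul_assoc, D.w2t, mul_assoc]
    · rw [← act_eq_one_iff (mul_mem hw2N heN), act_mul hw2N heN, h, hee]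

/-- **(DD), second part** -/
theorem false_of_triple {q q0 : ℕ} (W : Cfsg.Agent.UGT.Q2.World G) (hH : HQ G q) (hM : L2q q0 Me) (hq : q0 ^ 2 = q) {y : G}
    (hy : y = z ∨ y = v) (T : IsTriple y e J) : False := by
  have hyt : t * y = y * t := by
    rcases hy with h | h
    · rw [h]
      exact D.tz
    · rw [h]
      exact D.vt.symm
  have hye : y * e = e * y := by
    rcases hy with h | h
    · rw [h]
      exact D.P2.zc
    · rw [h]
      exact D.ve
  have he1 : e ≠ 1 := by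
    intro h
    have h1 := T.inva
    rw [h, orderOf_one] at h1
    exact absurd h1 (by norm_num)
  obtain ⟨N, TN, hor⟩ := T.pump D.ordt D.te hyt D.tJ
  have cN : center (↥N ⧸ oddCore ↥N) = ⊥ := by
    rcases W _ _ _ TN with h | h
    · exact l2t_center h
    · exact center_of_alt (by norm_num) h
  have P3 : Pump t e z1 (cen J t) N := ⟨D.ee, D.te, D.z11, D.z1n, D.z1cen, D.cenJ, TN.comp, cN, hor⟩
  obtain ⟨N', hN', -, hor'⟩ := McLLyComp.PumpT.exists_pump (mem_c D.tf.symm) D.ff D.cenI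
  have hz1N' : ¬ Fixes z1 N' := by
    intro h
    apply D.z1I
    have h1 : Fixes z1 (cen I t) := PumpGen.fixes_of_pump D.ff D.tf D.cenI hN' (mem_c D.z1t) (mem_c D.z1f) h (by
      rcases hor' with ⟨-, h⟩ | h
      · exact Or.inl h
      · exact Or.inr h)
    have h2 : z1 ∈ normalizer (I : Set G) := by
      have h3 : z1 = z * t⁻¹ := by rw [D.hz, mul_inv_cancel_right]
      rw [h3]
      exact mul_mem (isInner_norm D.zI) (inv_mem D.tI.1)
    exact (fixes_iff_of_sup D.supI h1.1 h2).mp h1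
  have hNN : N' = N ∨ N' = cj e N := by
    by_contra hcon
    rw [not_or] at hcon
    exact hz1N' (P3.fixes hN' hcon.1 hcon.2)
  have hfe : cj f N' = cj e N' := by
    have h1 : cj z1 N' = N' := mem_normalizer_iff_cj.mp (P3.norm D.z1cen hN')
    have h2 : cj t N' = N' := mem_normalizer_iff_cj.mp (tN hN').1
    rw [D.fe', cj_mul, h2, cj_mul, h1]
  by_cases hne : cj e N = N
  · have hN'' : N' = N := by
      rcases hNN with h | h
      · exact h
      · rw [h, hne]
    rw [hN'', hne] at hfe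
    rw [hN''] at hor'
    have hfN : f ∈ normalizer (N : Set G) := mem_normalizer_iff_cj.mpr hfe
    have heN : e ∈ normalizer (N : Set G) := mem_normalizer_iff_cj.mpr hne
    have hEN : cen J t ≤ N := by
      rcases hor with ⟨-, h⟩ | ⟨h, -⟩
      · exact h
      · exact absurd hne h
    have hIN : cen I t ≤ N := by
      rcases hor' with ⟨-, h⟩ | ⟨h, -⟩
      · exact h
      · exact absurd hfe h
    rcases W _ _ _ TN with h | h
    · exact D.caseL2 hH hM hq hye he1 TN P3 heN hEN hfN hIN h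
    · exact D.caseA7 P3 heN hEN hfN hIN h
  · have hne' : cj f N' ≠ N' := by
      rw [hfe]
      rcases hNN with h | h
      · rw [h]
        exact hne
      · rw [h, P3.cc]
        exact fun h => hne h.symm
    have hI : cen I t = diag (centralizer ({t} : Set G)) N' f := by
      rcases hor' with ⟨h, -⟩ | ⟨-, h⟩
      · exact absurd (mem_normalizer_iff_cj.mp h) hne'
      · exact h
    exact D.caseA P3 hne hNN hI hne'

end DE

end Cfsg.Agent.UGT.Q2K
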