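import Cfsg.Agent.UGT.Q2K.Split
import Cfsg.Agent.GH.L2AutF

/-!
# UGT, inner `PSL₂(q)`, `|Q| = 2`: the 2-component of the centralizer of a field involution

`L / O(L) ≅ PSL(2,F)`, `c` an involution of field type on `L / O(L)`.

* `FComp X L M c R σ K`: `M` is the 2-component of `C_L(c)`, `R.sub K ≅ PSL(2,K)` its image in `L / O(L)`;
* `exists_fcomp`: existence;
* `FComp.cent`: the centralizer of `R.sub K` in `Aut (L / O(L))` is `⟨c⟩`;
* `FComp.exists_psi`: `M / O(M) ≅ R.sub K`; 2-elements of `C_L(c)` outside `M` induce on it automorphisms with `o₁ ≠ 1`.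
-/

set_option autoImplicit false

open Cfsg Subgroup
open Cfsg.Agent.SignalizersComponents Cfsg.Agent.Lib
open Cfsg.Agent.SignalizersComponents.IntrinsicBasic
open Cfsg.Agent.SignalizersComponents.PLayerAut
open Cfsg.Agent.Intrinsic.Basic Cfsg.Agent.Intrinsic.Cen Cfsg.Agent.Intrinsic.Diag
open Cfsg.Agent.McLLyComp.Act
open Cfsg.Agent.UGT.Triple Cfsg.Agent.UGT.TriBase
open scoped commutatorElement

namespace Cfsg.Agent.UGT.Q2K

section field

open Cfsg.Agent.GH.L2Aut Cfsg.Agent.Lib.SL2Mat Cfsg.Agent.Lib.AutSL2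

variable {F : Type*} [Field F] [Finite F]

/-- the field automorphisms fixing the fixed field of an involution -/
theorem fix_field {σ τ : F ≃+* F} (hσ2 : σ * σ = 1) (hσ : σ ≠ 1) (h2 : (2 : F) ≠ 0)
    (h : ∀ a, σ a = a → τ a = a) : τ = 1 ∨ τ = σ := by
  obtain ⟨u, hu, hu'⟩ := Cfsg.Agent.GH.L2Aut.Rep.exists_anti hσ2 hσ
  have hss : ∀ a, σ (σ a) = a := fun a => congrArg (fun ρ : F ≃+* F => ρ a) hσ2
  have h1 : τ (u * u) = u * u := h _ (by rw [map_mul, hu']; ring)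
  have h3 : (τ u - u) * (τ u + u) = 0 := by
    rw [map_mul] at h1
    linear_combination h1
  have e2 : σ 2 = 2 := map_ofNat σ 2
  have h2u : (2 : F) * u ≠ 0 := mul_ne_zero h2 hu
  have h5 : ∀ a : F, a = (a + σ a) / 2 + (a - σ a) / (2 * u) * u := by
    intro a
    field_simp
    ring
  have h6 : ∀ a : F, τ ((a + σ a) / 2) = (a + σ a) / 2 := by
    intro a
    apply h
    rw [map_div₀, map_add, hss, e2, add_comm]
  have h7 : ∀ a : F, τ ((a - σ a) / (2 * u)) = (a - σ a) / (2 * u) := by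
    intro a
    apply h
    rw [map_div₀, map_mul, map_sub, hss, hu', e2]
    field_simp
    ring
  have h8 : ∀ a : F, τ a = (a + σ a) / 2 + (a - σ a) / (2 * u) * τ u := by
    intro a
    conv_lhs => rw [h5 a]
    rw [map_add, map_mul, h6, h7]
  rcases mul_eq_zero.1 h3 with h4 | h4
  · left
    have h9 : τ u = u := by linear_combination h4
    ext a
    show τ a = a
    rw [h8, h9, ← h5]
  · right
    have h9 : τ u = -u := by linear_combination h4
    ext a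
    rw [h8, h9]
    field_simp
    ring

variable {L : Type*} [Group L] (R : GH.L2Aut.Rep F L)

/-- **the centralizer of the subfield subgroup** -/
theorem cent_sub {K : Subfield F} {σ : F ≃+* F} (hσ2 : σ * σ = 1) (hσ : σ ≠ 1)
    (hK : ∀ a, a ∈ K ↔ σ a = a) {β : MulAut L} (hf : ∀ y ∈ R.sub K, β y = y) : β = 1 ∨ β = R.fa σ := by
  have hup : ∀ a : F, σ a = a → β (R.π (up a)) = R.π (up a) := by
    intro a ha
    apply hf
    rw [R.mem_sub]
    refine ⟨up ⟨a, (hK a).2 ha⟩, ?_⟩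
    congr 1
    apply Subtype.ext
    apply mat_ext <;> rfl
  have hlo : ∀ a : F, σ a = a → β (R.π (lo a)) = R.π (lo a) := by
    intro a ha
    apply hf
    rw [R.mem_sub]
    refine ⟨lo ⟨a, (hK a).2 ha⟩, ?_⟩
    congr 1
    apply Subtype.ext
    apply mat_ext <;> rfl
  have h1 := Cfsg.Agent.OddHalf.D6.SubFix.eq_fa R (hup 1 (map_one σ)) (hlo 1 (map_one σ))
  have h2 : ∀ a, σ a = a → R.fld β a = a := by
    intro a ha
    have h3 := hup a ha
    rw [h1, Cfsg.Agent.OddHalf.D6.SubFix.fa_up, R.π_eq_iff] at h3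
    rcases h3 with h3 | h3
    · exact up_inj h3
    · exfalso
      have h4 := congrArg (fun y => ent y 0 0) h3
      have h5 : ent (-(up a)) 0 0 = -ent (up a) 0 0 := rfl
      simp only [h5, up_00] at h4
      exact R.two (by linear_combination h4)
  rcases fix_field hσ2 hσ R.two h2 with h3 | h3
  · left
    rw [h1, h3, map_one]
  · right
    rw [h1, h3]

end field

section comp

open Cfsg.Agent.GH.L2Aut (exists_fixed_field fixSub mem_fixSub)

variable {G : Type*} [Group G]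

/-- `M` is the 2-component of `C_L(c)`, `c` of field type on `L / O(L)`; `R.sub K` is its image. -/
structure FComp {F : Type} [Field F] [Finite F] (X L M : Subgroup G) (c : G)
    (R : GH.L2Aut.Rep F (↥L ⧸ oddCore ↥L)) (σ : F ≃+* F) (K : Subfield F) : Prop where
  cN : c ∈ normalizer (L : Set G)
  act_c : act L ⟨c, cN⟩ = R.fa σ
  sq : c * c = 1
  ord : orderOf σ = 2
  fix : ∀ a, a ∈ K ↔ σ a = a
  card : Nat.card F = Nat.card K ^ 2
  big : 3 < Nat.card K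
  comp : IsComp (X ⊓ centralizer ({c} : Set G)) M
  le : M ≤ L
  mem : ∀ m (hm : m ∈ M), (QuotientGroup.mk ⟨m, le hm⟩ : ↥L ⧸ oddCore ↥L) ∈ R.sub K
  surj : ∀ y ∈ R.sub K, ∃ (m : G) (hm : m ∈ M), (QuotientGroup.mk ⟨m, le hm⟩ : ↥L ⧸ oddCore ↥L) = y
  two : ∀ j (hj : j ∈ L), j * c = c * j → (∃ n : ℕ, j ^ 2 ^ n = 1) →
    (QuotientGroup.mk ⟨j, hj⟩ : ↥L ⧸ oddCore ↥L) ∈ R.sub K → j ∈ M
  nrm : L ⊓ centralizer ({c} : Set G) ≤ normalizer (M : Set G)
  core_le : core M ≤ core L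

variable [Finite G]

/-- **existence** -/
theorem exists_fcomp {X K : Subgroup G} {v : G} (hK : IsComp X K) (hvv : v * v = 1)
    (hvK : v ∈ normalizer (K : Set G)) {F : Type} [Field F] [Finite F]
    (R : GH.L2Aut.Rep F (↥K ⧸ oddCore ↥K)) (h9 : 9 < Nat.card F)
    (hf : R.fld (act K ⟨v, hvK⟩) ≠ 1) :
    ∃ (R' : GH.L2Aut.Rep F (↥K ⧸ oddCore ↥K)) (σ : F ≃+* F) (K₀ : Subfield F) (I : Subgroup G),
      FComp X K I v R' σ K₀ := by
  obtain ⟨φ, hφ⟩ : ∃ φ, φ = act K ⟨v, hvK⟩ := ⟨_, rfl⟩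
  rw [← hφ] at hf
  have hφφ : φ * φ = 1 := by
    rw [hφ, ← map_mul]
    have h1 : (⟨v, hvK⟩ : ↥(normalizer (K : Set G))) * ⟨v, hvK⟩ = 1 := Subtype.ext hvv
    rw [h1, map_one]
  obtain ⟨σ, hσ⟩ : ∃ σ, σ = R.fld φ := ⟨_, rfl⟩
  rw [← hσ] at hf
  have hσ2 : σ * σ = 1 := by rw [hσ, ← map_mul, hφφ, map_one]
  have hord : orderOf σ = 2 := by
    rw [orderOf_eq_prime_iff]
    exact ⟨by rw [sq]; exact hσ2, hf⟩
  obtain ⟨R', -, -, hR'⟩ := R.exists_rep φ (by rw [← hσ, hord, sq, hφφ])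
  rw [← hσ] at hR'
  obtain ⟨K₀, hK₀, hcard⟩ := exists_fixed_field σ
  have heven : Even (orderOf σ) := by rw [hord]; decide
  obtain ⟨w, hw, hwn, hwx⟩ := R'.exists_outer heven hK₀ hcard
  have hfix : ∀ m ∈ R'.sub K₀, φ m = m := by
    intro m hm
    rw [hR']
    exact R'.sub_le_fix hK₀ hm
  have hnorm : ∀ c, φ c = c → ∀ m ∈ R'.sub K₀, c * m * c⁻¹ ∈ R'.sub K₀ := by
    intro c hc m hm
    have hcf : c ∈ fixSub (R'.fa σ) := by rw [mem_fixSub, ← hR']; exact hc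
    have hmf : m ∈ fixSub (R'.fa σ) := by rw [mem_fixSub, ← hR']; exact hfix m hm
    by_cases h1 : c ∈ R'.sub K₀
    · exact mul_mem (mul_mem h1 hm) (inv_mem h1)
    · by_contra h10
      have h2 := hwx c hcf h1
      have h11 := hwx _ (mul_mem (mul_mem hcf hmf) (inv_mem hcf)) h10
      have h13 : (w * c * m)⁻¹ * (w * (c * m * c⁻¹)) = c⁻¹ := by group
      have h12 : c⁻¹ ∈ R'.sub K₀ := by
        rw [← h13]
        exact mul_mem (inv_mem (mul_mem h2 hm)) h11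
      exact h1 (inv_mem_iff.1 h12)
  have h3 : 3 < Nat.card K₀ := by
    rw [hord] at hcard
    rw [hcard] at h9
    by_contra hcon
    push Not at hcon
    have := Nat.pow_le_pow_left hcon 2
    omega
  obtain ⟨RS⟩ : Nonempty (GH.L2Aut.Rep K₀ (R'.sub K₀)) := ⟨R'.subRep K₀⟩
  have hsim : IsSimpleGroup (R'.sub K₀) := Cfsg.Agent.OddHalf.D6.SubFix.isSimple RS h3
  have hqs : IsQuasisimple (R'.sub K₀) := Cfsg.Agent.OddHalf.D6.SubFix.isQuasisimple RS h3
  obtain ⟨M₀, hM₀⟩ : ∃ M₀, M₀ = R'.sub K₀ := ⟨_, rfl⟩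
  rw [← hM₀] at hfix hnorm hsim hqs RS
  clear hwx hwn hw w heven
  -- `J`, the preimage of `M₀` in `C_K(v)`
  let J : Subgroup G :=
    { carrier := {k | ∃ hk : k ∈ K, k * v = v * k ∧ (QuotientGroup.mk ⟨k, hk⟩ : ↥K ⧸ oddCore ↥K) ∈ M₀}
      one_mem' := ⟨one_mem _, by rw [one_mul, mul_one], one_mem M₀⟩
      mul_mem' := by
        rintro a b ⟨ha, ha1, ha2⟩ ⟨hb, hb1, hb2⟩
        refine ⟨mul_mem ha hb, ?_, mul_mem ha2 hb2⟩
        rw [mul_assoc, hb1, ← mul_assoc, ha1, mul_assoc]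
      inv_mem' := by
        rintro a ⟨ha, ha1, ha2⟩
        refine ⟨inv_mem ha, ?_, inv_mem ha2⟩
        rw [inv_mul_eq_iff_eq_mul, ← mul_assoc, ha1, mul_inv_cancel_right] }
  have hJK : J ≤ K := fun k hk => hk.1
  have hJv : J ≤ centralizer ({v} : Set G) := by
    rintro k ⟨-, h, -⟩
    exact mem_c h
  have hlift : ∀ m ∈ M₀, ∃ (j : G) (hj : j ∈ J), (QuotientGroup.mk ⟨j, hJK hj⟩ :
      ↥K ⧸ oddCore ↥K) = m := by
    intro m hm
    obtain ⟨l, hl, hlv, h⟩ := L2Inner.WBTriple.exists_lift hvK hvv (y := m) (by rw [← hφ]; exact hfix m hm)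
    exact ⟨l, ⟨hl, hlv, by rw [h]; exact hm⟩, h⟩
  have hnJ : K ⊓ centralizer ({v} : Set G) ≤ normalizer (J : Set G) := by
    refine L2Inner.le_normalizer_of fun a ha j hj => ?_
    obtain ⟨hjK, hjv, hjM⟩ := hj
    have hav : a * v = v * a := comm_c ha.2
    refine ⟨mul_mem (mul_mem ha.1 hjK) (inv_mem ha.1), ?_, ?_⟩
    · have h1 : a⁻¹ * v = v * a⁻¹ := by
        rw [inv_mul_eq_iff_eq_mul, ← mul_assoc, hav, mul_inv_cancel_right]
      calc a * j * a⁻¹ * v = a * j * (a⁻¹ * v) := by group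
        _ = a * (j * v) * a⁻¹ := by rw [h1]; group
        _ = (a * v) * j * a⁻¹ := by rw [hjv]; group
        _ = v * (a * j * a⁻¹) := by rw [hav]; group
    · have h1 : φ (QuotientGroup.mk ⟨a, ha.1⟩) = QuotientGroup.mk ⟨a, ha.1⟩ := by
        rw [hφ, act_mk hvK ha.1]
        congr 1
        exact Subtype.ext (by change v * a * v⁻¹ = a; rw [← hav, mul_inv_cancel_right])
      exact hnorm _ h1 _ hjM
  obtain ⟨I, hI⟩ : ∃ I, I = PComponents.pElem 2 J := ⟨_, rfl⟩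
  have hIJ : I ≤ J := hI ▸ PComponents.pElem_le _
  have hIK : I ≤ K := hIJ.trans hJK
  have hnI : K ⊓ centralizer ({v} : Set G) ≤ normalizer (I : Set G) := by
    rw [hI]
    exact hnJ.trans (PComponents.normalizer_le_normalizer_pElem J)
  have hJnI : J ≤ normalizer (I : Set G) := (le_inf hJK hJv).trans hnI
  -- the map `I → M₀`
  let f : ↥I →* ↥M₀ :=
    { toFun := fun i => ⟨QuotientGroup.mk ⟨i, hIK i.2⟩, (hIJ i.2).2.2⟩
      map_one' := rfl
      map_mul' := fun _ _ => rfl }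
  have hfk : ∀ i : ↥I, f i = 1 ↔ (i : G) ∈ core K := by
    intro i
    rw [← mk_eq_one_iff (hIK i.2)]
    exact ⟨fun h => congrArg Subtype.val h, fun h => Subtype.ext h⟩
  have hfn : f.range.Normal := by
    constructor
    rintro _ ⟨i, rfl⟩ ⟨m, hm⟩
    obtain ⟨j, hj, hjm⟩ := hlift m hm
    refine ⟨⟨j * i * j⁻¹, conj_mem (hJnI hj) i.2⟩, ?_⟩
    apply Subtype.ext
    change (QuotientGroup.mk (⟨j, hJK hj⟩ * ⟨i, hIK i.2⟩ * ⟨j, hJK hj⟩⁻¹) : ↥K ⧸ oddCore ↥K) = _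
    rw [QuotientGroup.mk_mul, QuotientGroup.mk_mul, QuotientGroup.mk_inv, hjm]
    rfl
  have hfs : Function.Surjective f := by
    rw [← MonoidHom.range_eq_top]
    refine (hsim.eq_bot_or_eq_top_of_normal _ hfn).resolve_left fun hbot => ?_
    obtain ⟨a, b, hF⟩ := RS.exists_four
    obtain ⟨j, hj, hjm⟩ := hlift a a.2
    have h5 : j ^ 2 ^ 1 ∈ core K := by
      rw [pow_one, pow_two, ← mk_eq_one_iff (mul_mem (hJK hj) (hJK hj))]
      have h6 : (QuotientGroup.mk (⟨j, hJK hj⟩ * ⟨j, hJK hj⟩) : ↥K ⧸ oddCore ↥K) = 1 := by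
        rw [QuotientGroup.mk_mul, hjm]
        exact congrArg Subtype.val hF.aa
      exact h6
    obtain ⟨k, hk1, hk2⟩ := Intrinsic.Lifting.exists_two_part (odd_card_core K) h5
    have hkJ : j ^ k ∈ J := J.pow_mem hj k
    have hkI : j ^ k ∈ I := by
      rw [hI]
      exact PComponents.mem_pElem (n := 1) hkJ hk1
    have h6 : f ⟨j ^ k, hkI⟩ = a := by
      apply Subtype.ext
      change (QuotientGroup.mk ⟨j ^ k, hJK hkJ⟩ : ↥K ⧸ oddCore ↥K) = a
      rw [← hjm]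
      exact ((mk_eq_iff (hJK hj) (hJK hkJ)).mpr hk2).symm
    have h7 : f ⟨j ^ k, hkI⟩ ∈ f.range := ⟨_, rfl⟩
    rw [hbot, mem_bot, h6] at h7
    exact hF.a1 h7
  have hker : oddCore ↥I = f.ker := by
    have hker2 : (Nat.card f.ker).Coprime 2 := by
      rw [Nat.coprime_two_right]
      have h5 : f.ker.map I.subtype ≤ core K := by
        rintro _ ⟨i, hi, rfl⟩
        exact (hfk i).mp hi
      have h6 := card_dvd_of_le h5
      rw [card_map_of_injective I.subtype_injective] at h6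
      exact Odd.of_dvd_nat (odd_card_core K) h6
    apply le_antisymm
    · intro x hx
      have h4 : (oddCore ↥I).map f = ⊥ := by
        refine L2Inner.WBAut.odd_normal_eq_bot RS (Normal.map inferInstance f hfs) ?_
        rw [← Nat.coprime_two_right]
        exact Nat.Coprime.coprime_dvd_left (Subgroup.card_map_dvd _ f)
          (Cores.pPrimeCore_coprime 2)
      have h5 : f x ∈ (oddCore ↥I).map f := ⟨x, hx, rfl⟩
      rw [h4, mem_bot] at h5
      exact h5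
    · exact Cores.le_pPrimeCore inferInstance hker2
  let e : (↥I ⧸ oddCore ↥I) ≃* ↥M₀ :=
    (QuotientGroup.quotientMulEquivOfEq hker).trans (QuotientGroup.quotientKerEquivOfSurjective f hfs)
  have hcoreI : core I ≤ core K := by
    rintro _ ⟨i, hi, rfl⟩
    have hi' : i ∈ oddCore ↥I := hi
    rw [hker] at hi'
    exact (hfk i).mp hi'
  have hcomp : IsComp (K ⊓ centralizer ({v} : Set G)) I := by
    rw [isComp_iff]
    refine ⟨le_inf hIK (hIJ.trans hJv), ?_, ?_, ?_⟩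
    · have : (I.subgroupOf (K ⊓ centralizer ({v} : Set G))).Normal :=
        normal_subgroupOf_of_le_normalizer hnI
      exact this.isSubnormal
    · have : Nontrivial (↥I ⧸ oddCore ↥I) := e.toEquiv.nontrivial
      exact QuasisimpleQuotient.isQuasisimple_of_surjective e.symm.toMonoidHom e.symm.surjective hqs
    · rw [hI]
      apply le_antisymm (PComponents.pElem_le _)
      refine (Subgroup.closure_le _).mpr ?_
      rintro y ⟨hy, n, hn⟩
      exact PComponents.mem_pElem (n := n) (PComponents.mem_pElem (n := n) hy hn) hn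
  have hsn : ((K ⊓ centralizer ({v} : Set G)).subgroupOf
      (X ⊓ centralizer ({v} : Set G))).IsSubnormal := by
    have h5 := IsSubnormal.comap (inclusion (inf_le_left : X ⊓ centralizer ({v} : Set G) ≤ X)) hK.2.1
    have h6 : (K.subgroupOf X).comap (inclusion (inf_le_left : X ⊓ centralizer ({v} : Set G) ≤ X)) =
        (K ⊓ centralizer ({v} : Set G)).subgroupOf (X ⊓ centralizer ({v} : Set G)) := by
      ext x
      constructor
      · intro hx
        exact ⟨hx, x.2.2⟩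
      · intro hx
        exact hx.1
    rwa [h6] at h5
  have htwo : ∀ j (hj : j ∈ K), j * v = v * j → (∃ n : ℕ, j ^ 2 ^ n = 1) →
      (QuotientGroup.mk ⟨j, hj⟩ : ↥K ⧸ oddCore ↥K) ∈ M₀ → j ∈ I := by
    rintro j hj hjv ⟨n, hn⟩ hjM
    rw [hI]
    exact PComponents.mem_pElem (n := n) ⟨hj, hjv, hjM⟩ hn
  rw [hord] at hcard
  refine ⟨R', σ, K₀, I, hvK, by rw [← hφ]; exact hR', hvv, hord, hK₀, hcard, h3,
    hcomp.extend (inf_le_inf_right _ hK.le) hsn, hIK, fun m hm => ?_, fun y hy => ?_, fun j hj h1 h2 h4 => ?_,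
    hnI, hcoreI⟩
  · rw [← hM₀]
    exact (hIJ hm).2.2
  · rw [← hM₀] at hy
    obtain ⟨⟨i, hi⟩, him⟩ := hfs ⟨y, hy⟩
    exact ⟨i, hi, congrArg Subtype.val him⟩
  · rw [← hM₀] at h4
    exact htwo j hj h1 h2 h4

namespace FComp

variable {F : Type} [Field F] [Finite F] {X L M : Subgroup G} {c : G}
  {R : GH.L2Aut.Rep F (↥L ⧸ oddCore ↥L)} {σ : F ≃+* F} {K : Subfield F}

omit [Finite G] in
theorem sq_sigma (h : FComp X L M c R σ K) : σ * σ = 1 := by
  rw [← pow_two, ← h.ord, pow_orderOf_eq_one]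

omit [Finite G] in
theorem sigma_ne (h : FComp X L M c R σ K) : σ ≠ 1 := by
  intro h1
  have h2 := h.ord
  rw [h1, orderOf_one] at h2
  exact absurd h2 (by norm_num)

omit [Finite G] in
theorem fld_c (h : FComp X L M c R σ K) : R.fld (act L ⟨c, h.cN⟩) ≠ 1 := by
  rw [h.act_c, R.fld_fa]
  exact h.sigma_ne

omit [Finite G] in
/-- an element fixing `M` acts on `L / O(L)` as `1` or `c` -/
theorem cent (h : FComp X L M c R σ K) {g : G} (hg : g ∈ normalizer (L : Set G)) (hf : Fixes g M) :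
    act L ⟨g, hg⟩ = 1 ∨ act L ⟨g, hg⟩ = act L ⟨c, h.cN⟩ := by
  rw [h.act_c]
  refine cent_sub R h.sq_sigma h.sigma_ne h.fix fun y hy => ?_
  obtain ⟨m, hm, rfl⟩ := h.surj y hy
  have hmL := h.le hm
  rw [act_mk hg hmL, eq_comm, mk_eq_iff hmL (Cfsg.Agent.McLLyComp.Act.conj_mem hg hmL)]
  have h5 := h.core_le (hf.2 m hm)
  have h6 := conj_core (L.inv_mem hmL) h5
  have h7 : m⁻¹ * ⁅g, m⁆ * m⁻¹⁻¹ = m⁻¹ * (g * m * g⁻¹) := by
    rw [commutatorElement_def]
    group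
  rwa [h7] at h6

omit [Finite G] in
/-- an element of odd order fixing `M` fixes `L` -/
theorem cent_odd (h : FComp X L M c R σ K) {g : G} (hg : g ∈ normalizer (L : Set G)) (hf : Fixes g M)
    (ho : Odd (orderOf g)) : Fixes g L := by
  rw [← act_eq_one_iff hg]
  rcases h.cent hg hf with h1 | h1
  · exact h1
  · have h2 : act L ⟨g, hg⟩ * act L ⟨g, hg⟩ = 1 := by
      rw [h1, ← map_mul]
      have h3 : (⟨c, h.cN⟩ : ↥(normalizer (L : Set G))) * ⟨c, h.cN⟩ = 1 := Subtype.ext h.sq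
      rw [h3, map_one]
    refine Cfsg.Agent.OddHalf.D6.PglType.eq_one_of_odd_sq h2 ?_
    have h4 : orderOf (act L ⟨g, hg⟩) ∣ orderOf (⟨g, hg⟩ : ↥(normalizer (L : Set G))) :=
      orderOf_map_dvd _ _
    rw [Subgroup.orderOf_mk] at h4
    exact Odd.of_dvd_nat ho h4

/-- `M / O(M) ≅ R.sub K` -/
theorem exists_psi (h : FComp X L M c R σ K) : ∃ ψ : (↥M ⧸ oddCore ↥M) ≃* ↥(R.sub K),
    (∀ m (hm : m ∈ M), ((ψ (QuotientGroup.mk ⟨m, hm⟩) : ↥(R.sub K)) : ↥L ⧸ oddCore ↥L) =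
      QuotientGroup.mk ⟨m, h.le hm⟩) ∧
    ∀ j (hjL : j ∈ normalizer (L : Set G)) (hjM : j ∈ normalizer (M : Set G)) (n : ↥(R.sub K)),
      ((MulAut.congr ψ (act M ⟨j, hjM⟩) n : ↥(R.sub K)) : ↥L ⧸ oddCore ↥L) = act L ⟨j, hjL⟩ n := by
  let f : ↥M →* ↥(R.sub K) :=
    { toFun := fun m => ⟨QuotientGroup.mk ⟨m, h.le m.2⟩, h.mem m m.2⟩
      map_one' := rfl
      map_mul' := fun _ _ => rfl }
  have hfs : Function.Surjective f := by
    rintro ⟨y, hy⟩
    obtain ⟨m, hm, hmy⟩ := h.surj y hy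
    exact ⟨⟨m, hm⟩, Subtype.ext hmy⟩
  have hfk : ∀ m : ↥M, f m = 1 ↔ (m : G) ∈ core L := by
    intro m
    rw [← mk_eq_one_iff (h.le m.2)]
    exact ⟨fun h => congrArg Subtype.val h, fun h => Subtype.ext h⟩
  have hker : oddCore ↥M = f.ker := by
    have hker2 : (Nat.card f.ker).Coprime 2 := by
      rw [Nat.coprime_two_right]
      have h5 : f.ker.map M.subtype ≤ core L := by
        rintro _ ⟨i, hi, rfl⟩
        exact (hfk i).mp hi
      have h6 := card_dvd_of_le h5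
      rw [card_map_of_injective M.subtype_injective] at h6
      exact Odd.of_dvd_nat (odd_card_core L) h6
    apply le_antisymm
    · intro x hx
      rw [MonoidHom.mem_ker, hfk]
      exact h.core_le ((mem_core_iff x.2).mpr hx)
    · exact Cores.le_pPrimeCore inferInstance hker2
  let ψ : (↥M ⧸ oddCore ↥M) ≃* ↥(R.sub K) :=
    (QuotientGroup.quotientMulEquivOfEq hker).trans (QuotientGroup.quotientKerEquivOfSurjective f hfs)
  have hψ : ∀ m : ↥M, ψ (QuotientGroup.mk m) = f m := fun _ => rfl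
  refine ⟨ψ, fun m hm => congrArg Subtype.val (hψ ⟨m, hm⟩), fun j hjL hjM n => ?_⟩
  obtain ⟨⟨m, hm⟩, rfl⟩ := hfs n
  have e1 : ψ.symm (f ⟨m, hm⟩) = QuotientGroup.mk ⟨m, hm⟩ := by
    rw [← hψ, ψ.symm_apply_apply]
  change ((ψ (act M ⟨j, hjM⟩ (ψ.symm (f ⟨m, hm⟩))) : ↥(R.sub K)) : ↥L ⧸ oddCore ↥L) = _
  rw [e1, act_mk hjM hm, hψ]
  exact (act_mk hjL (h.le hm)).symm

theorem l2t (h : FComp X L M c R σ K) : L2Inner.L2T M := by
  obtain ⟨ψ, -, -⟩ := h.exists_psi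
  obtain ⟨RS⟩ : Nonempty (GH.L2Aut.Rep K (R.sub K)) := ⟨R.subRep K⟩
  exact ⟨K, inferInstance, inferInstance,
    ⟨{ π := ψ.symm.toMonoidHom.comp RS.π
       surj := ψ.symm.surjective.comp RS.surj
       ker := fun x => by
         rw [← RS.ker x]
         exact ψ.symm.map_eq_one_iff
       two := RS.two }⟩⟩

theorem card_bar (h : FComp X L M c R σ K) :
    Nat.card (↥M ⧸ oddCore ↥M) * 2 = Nat.card K * (Nat.card K ^ 2 - 1) := by
  obtain ⟨ψ, -, -⟩ := h.exists_psi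
  rw [Nat.card_congr ψ.toEquiv]
  exact (R.subRep K).card_mul_two

omit [Finite G] in
/-- 2-elements of `C_L(c)` outside `M` have `o₁ ≠ 1` -/
theorem outer (h : FComp X L M c R σ K) {ψ : (↥M ⧸ oddCore ↥M) ≃* ↥(R.sub K)}
    (hψ : ∀ j (hjL : j ∈ normalizer (L : Set G)) (hjM : j ∈ normalizer (M : Set G)) (n : ↥(R.sub K)),
      ((MulAut.congr ψ (act M ⟨j, hjM⟩) n : ↥(R.sub K)) : ↥L ⧸ oddCore ↥L) = act L ⟨j, hjL⟩ n)
    {j : G} (hj : j ∈ L) (hjc : j * c = c * j) (h2 : ∃ n : ℕ, j ^ 2 ^ n = 1) (hjM : j ∉ M)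
    (hn : j ∈ normalizer (M : Set G)) :
    (R.subRep K).o1 (MulAut.congr ψ (act M ⟨j, hn⟩)) ≠ 1 := by
  have h3 : (QuotientGroup.mk ⟨j, hj⟩ : ↥L ⧸ oddCore ↥L) ∈ GH.L2Aut.fixSub (R.fa σ) := by
    rw [GH.L2Aut.mem_fixSub, ← h.act_c, act_mk h.cN hj]
    congr 1
    exact Subtype.ext (by change c * j * c⁻¹ = j; rw [← hjc, mul_inv_cancel_right])
  have h4 : (QuotientGroup.mk ⟨j, hj⟩ : ↥L ⧸ oddCore ↥L) ∉ R.sub K := fun h4 => hjM (h.two j hj hjc h2 h4)
  obtain ⟨h5, h6⟩ := R.outer_act (by rw [h.ord]; decide) h.fix (by rw [h.ord]; exact h.card) h3 h4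
    (β := MulAut.congr ψ (act M ⟨j, hn⟩)) (fun n => by
      rw [hψ j (le_normalizer hj) hn, act_of_mem hj, MulAut.conj_apply])
  intro h7
  exact h6 ((R.subRep K).mem_inn_iff.mpr ⟨(R.subRep K).mem_PGL_iff_fld.mp h5, h7⟩)

end FComp

end comp

end Cfsg.Agent.UGT.Q2K
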