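import Cfsg.Agent.UGT.Q2K.Key1
import Cfsg.Agent.UGT.Q2.Defs

/-!
# UGT, inner `PSL₂(q)`, `|Q| = 2`: inner action on the 2-components along pump-ups

* `isInner_iff`; `inner_cen`, `inner_diag`: transfer along `cen X v` and along a diagonal;
* `card_cen`, `card_diag`;
* `one_or_field`: an element centralizing a 2-component inside `N` acts as `1` or is of field type.
-/

set_option autoImplicit false

open Cfsg Subgroup
open Cfsg.Agent.SignalizersComponents Cfsg.Agent.Lib
open Cfsg.Agent.SignalizersComponents.IntrinsicBasic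
open Cfsg.Agent.SignalizersComponents.PLayerAut
open Cfsg.Agent.Intrinsic.Basic Cfsg.Agent.Intrinsic.Cen Cfsg.Agent.Intrinsic.Diag
open Cfsg.Agent.McLLyComp.Act
open Cfsg.Agent.UGT.Triple Cfsg.Agent.UGT.TriBase Cfsg.Agent.UGT.Iface
open Cfsg.Agent.GH.L2Aut (Four)
open Cfsg.Agent.UGT.L2Inner (L2T)
open scoped commutatorElement

namespace Cfsg.Agent.UGT.Q2K

section abs

variable {A B : Type*} [Group A] [Group B]

theorem congr_conj (θ : A ≃* B) (k : A) : MulAut.congr θ (MulAut.conj k) = MulAut.conj (θ k) := by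
  apply MulEquiv.ext
  intro y
  obtain ⟨y, rfl⟩ := θ.surjective y
  change θ (MulAut.conj k (θ.symm (θ y))) = θ k * θ y * (θ k)⁻¹
  rw [θ.symm_apply_apply, MulAut.conj_apply, map_mul, map_mul, map_inv]

theorem congr_inn (θ : A ≃* B) {α : MulAut A} : MulAut.congr θ α ∈ (MulAut.conj : B →* MulAut B).range ↔
    α ∈ (MulAut.conj : A →* MulAut A).range := by
  constructor
  · rintro ⟨k, hk⟩
    obtain ⟨k, rfl⟩ := θ.surjective k
    rw [← congr_conj] at hk
    exact ⟨k, (MulAut.congr θ).injective hk⟩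
  · rintro ⟨k, rfl⟩
    exact ⟨θ k, (congr_conj θ k).symm⟩

end abs

variable {G : Type*} [Group G]

theorem isInner_iff {L : Subgroup G} {x : G} (hx : x ∈ normalizer (L : Set G)) :
    IsInner x L ↔ act L ⟨x, hx⟩ ∈ (MulAut.conj : (↥L ⧸ oddCore ↥L) →* _).range := by
  constructor
  · rintro ⟨r, hr, hf⟩
    refine ⟨QuotientGroup.mk ⟨r, hr⟩, ?_⟩
    rw [← act_of_mem hr]
    have h1 := (act_eq_one_iff hf.1).mpr hf
    have h2 : act L ⟨x, hx⟩ = act L ⟨x * r⁻¹, hf.1⟩ * act L ⟨r, le_normalizer hr⟩ := by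
      rw [← act_mul hf.1 (le_normalizer hr)]
      have h3 : (⟨x, hx⟩ : ↥(normalizer (L : Set G))) = ⟨x * r⁻¹ * r, mul_mem hf.1 (le_normalizer hr)⟩ :=
        Subtype.ext (inv_mul_cancel_right x r).symm
      rw [h3]
    rw [h2, h1, one_mul]
  · rintro ⟨y, hy⟩
    obtain ⟨⟨r, hr⟩, rfl⟩ := QuotientGroup.mk_surjective y
    rw [← act_of_mem hr] at hy
    refine ⟨r, hr, ?_⟩
    rw [← act_eq_one_iff (mul_mem hx (inv_mem (le_normalizer hr))), act_mul hx (inv_mem (le_normalizer hr)),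
      act_inv (le_normalizer hr), ← hy, mul_inv_cancel]

theorem isInner_norm {L : Subgroup G} {x : G} (h : IsInner x L) : x ∈ normalizer (L : Set G) := by
  obtain ⟨r, hr, hf⟩ := h
  have h1 := mul_mem hf.1 (le_normalizer hr)
  rwa [inv_mul_cancel_right] at h1

theorem isInner_mul {L : Subgroup G} {x y : G} (hx : IsInner x L) (hy : IsInner y L) : IsInner (x * y) L := by
  have h1 := isInner_norm hx
  have h2 := isInner_norm hy
  rw [isInner_iff h1] at hx
  rw [isInner_iff h2] at hy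
  rw [isInner_iff (mul_mem h1 h2), act_mul h1 h2]
  exact mul_mem hx hy

theorem isInner_of_fixes {L : Subgroup G} {x : G} (hx : Fixes x L) : IsInner x L :=
  ⟨1, one_mem _, by rwa [inv_one, mul_one]⟩

theorem isInner_inv {L : Subgroup G} {x : G} (hx : IsInner x L) : IsInner x⁻¹ L := by
  have h1 := isInner_norm hx
  rw [isInner_iff h1] at hx
  rw [isInner_iff (inv_mem h1), act_inv h1]
  exact inv_mem hx

theorem isInner_mul_iff {L : Subgroup G} {x y : G} (hx : IsInner x L) : IsInner (x * y) L ↔ IsInner y L := by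
  constructor
  · intro h
    have h1 := isInner_mul (isInner_inv hx) h
    rwa [inv_mul_cancel_left] at h1
  · exact isInner_mul hx

theorem isInner_cj {L : Subgroup G} {x : G} (hx : IsInner x L) (g : G) : IsInner (g * x * g⁻¹) (cj g L) := by
  obtain ⟨r, hr, hf⟩ := hx
  refine ⟨g * r * g⁻¹, conj_mem_cj hr, ?_⟩
  have h1 := hf.cj g
  convert h1 using 1
  group

/-- an equivariant isomorphism `K / O(K) ≅ K' / O(K')` transports inner action -/
theorem isInner_congr {K K' : Subgroup G} (θ : (↥K ⧸ oddCore ↥K) ≃* (↥K' ⧸ oddCore ↥K')) {g : G}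
    (hg : g ∈ normalizer (K : Set G)) (hg' : g ∈ normalizer (K' : Set G))
    (h : MulAut.congr θ (act K ⟨g, hg⟩) = act K' ⟨g, hg'⟩) : IsInner g K ↔ IsInner g K' := by
  rw [isInner_iff hg, isInner_iff hg', ← h, congr_inn]

variable [Finite G]

theorem exists_iso_cen {X : Subgroup G} {v : G} (hs : cen X v ⊔ core X = X) :
    ∃ η : (↥(cen X v) ⧸ oddCore ↥(cen X v)) ≃* (↥X ⧸ oddCore ↥X),
      ∀ u (hu : u ∈ normalizer (X : Set G)) (hu' : u ∈ normalizer (cen X v : Set G)),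
        MulAut.congr η (act (cen X v) ⟨u, hu'⟩) = act X ⟨u, hu⟩ := by
  obtain ⟨η, hη⟩ := exists_quotEquiv hs
  have hle : cen X v ≤ X := cen_le X v
  refine ⟨η, fun u hu hu' => ?_⟩
  apply MulEquiv.ext
  intro y
  obtain ⟨y, rfl⟩ := η.surjective y
  obtain ⟨⟨k, hk⟩, rfl⟩ := QuotientGroup.mk_surjective y
  change η (act (cen X v) ⟨u, hu'⟩ (η.symm (η (QuotientGroup.mk ⟨k, hk⟩)))) = _
  rw [η.symm_apply_apply, act_mk hu' hk, hη k hk (hle hk), act_mk hu (hle hk)]
  exact hη _ (Cfsg.Agent.McLLyComp.Act.conj_mem hu' hk) _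

theorem inner_cen {X : Subgroup G} {v g : G} (hs : cen X v ⊔ core X = X)
    (hg : g ∈ normalizer (X : Set G)) (hgv : g * v = v * g) : IsInner g (cen X v) ↔ IsInner g X := by
  obtain ⟨η, hη⟩ := exists_iso_cen hs
  have hg' := mem_normalizer_cen hg hgv
  exact isInner_congr η hg' hg (hη g hg hg')

theorem card_cen {X : Subgroup G} {v : G} (hs : cen X v ⊔ core X = X) :
    Nat.card (↥(cen X v) ⧸ oddCore ↥(cen X v)) = Nat.card (↥X ⧸ oddCore ↥X) := by
  obtain ⟨η, -⟩ := exists_iso_cen hs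
  exact Nat.card_congr η.toEquiv

theorem inner_diag {X K : Subgroup G} {a g : G} (hK : IsComp X K) (hZ : center (↥K ⧸ oddCore ↥K) = ⊥)
    (haX : a ∈ X) (haa : a * a = 1) (hne : cj a K ≠ K) (hgX : g ∈ X) (hga : g * a = a * g)
    (hg : g ∈ normalizer (K : Set G)) : IsInner g K ↔ IsInner g (diag X K a) := by
  obtain ⟨θ, -, hθ⟩ := exists_iso hK hZ haX haa hne
  have hg' := mem_normalizer_diag hgX hga hg
  exact isInner_congr θ hg hg' (hθ g hgX hga hg hg')

theorem card_diag {X K : Subgroup G} {a : G} (hK : IsComp X K) (hZ : center (↥K ⧸ oddCore ↥K) = ⊥)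
    (haX : a ∈ X) (haa : a * a = 1) (hne : cj a K ≠ K) :
    Nat.card (↥(diag X K a) ⧸ oddCore ↥(diag X K a)) = Nat.card (↥K ⧸ oddCore ↥K) := by
  obtain ⟨θ, -⟩ := exists_iso hK hZ haX haa hne
  exact (Nat.card_congr θ.toEquiv).symm

/-- **an element centralizing a 2-component inside `N` acts as `1` or is of field type** -/
theorem one_or_field {N E H : Subgroup G} {F : Type*} [Field F] [Finite F]
    (R : GH.L2Aut.Rep F (↥N ⧸ oddCore ↥N)) (hE : IsComp H E) (hEN : E ≤ N) {g : G}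
    (hg : g ∈ normalizer (N : Set G)) (hgg : g * g = 1) (hc : ∀ x ∈ E, x * g = g * x) :
    act N ⟨g, hg⟩ = 1 ∨ R.fld (act N ⟨g, hg⟩) ≠ 1 := by
  by_contra hcon
  rw [not_or, not_not] at hcon
  obtain ⟨h1, h2⟩ := hcon
  have h3 : act N ⟨g, hg⟩ * act N ⟨g, hg⟩ = 1 := by
    rw [← map_mul]
    have h4 : (⟨g, hg⟩ : ↥(normalizer (N : Set G))) * ⟨g, hg⟩ = 1 := Subtype.ext hgg
    rw [h4, map_one]
  obtain ⟨P, hP⟩ : ∃ P : Subgroup (MulAut (↥N ⧸ oddCore ↥N)),
      P = (E.subgroupOf (normalizer (N : Set G))).map (act N) := ⟨_, rfl⟩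
  have hEn : E ≤ normalizer (N : Set G) := hEN.trans le_normalizer
  have hPP : ⁅P, P⁆ = P := by
    rw [hP, ← map_commutator]
    congr 1
    apply map_injective (normalizer (N : Set G)).subtype_injective
    rw [map_commutator, subgroupOf_map_subtype, inf_eq_left.mpr hEn, hE.perfect]
  have hbot := L2Inner.WBAut.perfect_comm R (R.mem_PGL_iff_fld.mpr h2) h1 h3 hPP (by
    rw [hP]
    rintro _ ⟨⟨x, hxN⟩, hx, rfl⟩
    rw [← map_mul, ← map_mul]
    congr 1
    exact Subtype.ext (hc x hx))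
  have hle : E ≤ core N := by
    intro x hx
    have h5 : act N ⟨x, hEn hx⟩ ∈ P := by
      rw [hP]
      exact ⟨⟨x, hEn hx⟩, hx, rfl⟩
    rw [hbot, mem_bot] at h5
    exact core_of_fixes R.center_eq_bot (hEN hx) ((act_eq_one_iff (hEn hx)).mp h5)
  exact hE.not_odd (odd_card_core N) hle

end Cfsg.Agent.UGT.Q2K
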