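import Cfsg.Agent.UGT.Q2K.FieldComp

/-!
# UGT, inner `PSL₂(q)`, `|Q| = 2`: facts on automorphisms and pump-ups for the Key Lemma

* `inv_cent'`, `no_two_rho`: facts on `Aut PSL(2,F)`;
* `exact_rho`: an element of order 3 modulo the core permuting a four-group of `M`;
* `Pump c a M N z`: `N` is the pump-up in `C(c)` of the 2-component `M` of `C(c) ∩ C(a)`, `z ∈ M` an involution: the
  2-components of `C(c)` moved by `z` are `N`, `N^a`.
-/

set_option autoImplicit false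

open Cfsg Subgroup
open Cfsg.Agent.SignalizersComponents Cfsg.Agent.Lib
open Cfsg.Agent.SignalizersComponents.IntrinsicBasic
open Cfsg.Agent.SignalizersComponents.PLayerAut
open Cfsg.Agent.Intrinsic.Basic Cfsg.Agent.Intrinsic.Cen Cfsg.Agent.Intrinsic.Diag
open Cfsg.Agent.McLLyComp.Act
open Cfsg.Agent.UGT.Triple Cfsg.Agent.UGT.TriBase
open Cfsg.Agent.GH.L2Aut (Four)
open Cfsg.Agent.UGT.L2Inner (L2T)
open scoped commutatorElement

namespace Cfsg.Agent.UGT.Q2K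

section aut

variable {F : Type*} [Field F] [Finite F] {Y : Type*} [Group Y] (R : GH.L2Aut.Rep F Y)

include R in
/-- an involution or `1` commuting with `⟨z, v⟩` and an automorphism `π` with `o₁ π ≠ 1` moving `v` -/
theorem inv_cent' {z v : Y} (hF : Four z v) {π γ : MulAut Y} (hπ : R.o1 π ≠ 1) (hπz : π z = z)
    (hπv : π v ≠ v) (hγ : γ * γ = 1) (hγz : γ z = z) (hγv : γ v = v) (hc : γ * π = π * γ) :
    γ = 1 ∨ γ = MulAut.conj z := by
  have hP : γ ∈ R.PGL := by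
    rw [R.mem_PGL_iff_fld]
    by_contra h
    exact hπ (R.o1_of_comm hγ h hc.symm)
  have key : ∀ u : Y, γ = MulAut.conj u → π u = u := by
    rintro u rfl
    have h1 : π * MulAut.conj u = MulAut.conj (π u) * π := by
      ext y
      simp only [MulAut.mul_apply, MulAut.conj_apply, map_mul, map_inv]
    rw [← hc] at h1
    exact (R.conj_injective (mul_right_cancel h1)).symm
  rcases R.fix_four hF hP hγz hγv with h | h | h | h
  · exact Or.inl h
  · exact Or.inr h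
  · exact absurd (key _ h) hπv
  · exfalso
    have h1 := key _ h
    rw [map_mul, hπz] at h1
    exact hπv (mul_left_cancel h1)

include R in
/-- `z ↦ w ↦ z w` under two elements commuting with `α` and with `α z`: impossible -/
theorem no_two_rho {z w : Y} (hF : Four z w) {α : MulAut Y} (hαz : α z = z) (hαw : α w = w)
    {r r' : Y} (h1 : r * z * r⁻¹ = w) (h2 : r * w * r⁻¹ = z * w) (h1' : r' * z * r'⁻¹ = w)
    (h2' : r' * w * r'⁻¹ = z * w) (hr : α r = r) (hr' : α (z * r' * z⁻¹) = r') : False := by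
  have e1 : (r⁻¹ * r') * z = z * (r⁻¹ * r') := by
    have : r⁻¹ * (r' * z * r'⁻¹) * r = z := by
      rw [h1', ← h1]
      group
    calc r⁻¹ * r' * z = (r⁻¹ * (r' * z * r'⁻¹) * r) * (r⁻¹ * r') := by group
      _ = _ := by rw [this]
  have e2 : (r⁻¹ * r') * w = w * (r⁻¹ * r') := by
    have : r⁻¹ * (r' * w * r'⁻¹) * r = w := by
      rw [h2', ← h2]
      group
    calc r⁻¹ * r' * w = (r⁻¹ * (r' * w * r'⁻¹) * r) * (r⁻¹ * r') := by group
      _ = _ := by rw [this]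
  have hc : α (r⁻¹ * r') = r⁻¹ * r' := by
    rcases L2Inner.WBAut.four_fix R hF e1 e2 with h | h | h | h
    · rw [h, map_one]
    · rw [h, hαz]
    · rw [h, hαw]
    · rw [h, map_mul, hαz, hαw]
  have h3 : α r' = r' := by
    have h4 : r' = r * (r⁻¹ * r') := by group
    rw [h4, map_mul, hr, hc]
  rw [map_mul, map_mul, map_inv, hαz, h3] at hr'
  apply hF.ne
  rw [← h1']
  have h5 : z * r' = r' * z := by
    rwa [mul_inv_eq_iff_eq_mul] at hr'
  rw [← h5, mul_inv_cancel_right]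

end aut

section rho

variable {G : Type*} [Group G] [Finite G]

omit [Finite G] in
theorem mul_self_ne {z w : G} (hzz : z * z = 1) (hzw : z ≠ w) : z * w ≠ 1 := by
  intro h
  apply hzw
  calc z = z * (z * w) := by rw [h, mul_one]
    _ = w := by rw [← mul_assoc, hzz, one_mul]

omit [Finite G] in
theorem sq_mul {z w : G} (hzz : z * z = 1) (hww : w * w = 1) (hc : z * w = w * z) :
    (z * w) * (z * w) = 1 := by
  calc (z * w) * (z * w) = z * (w * z) * w := by group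
    _ = (z * z) * (w * w) := by rw [← hc]; group
    _ = 1 := by rw [hzz, hww, mul_one]

/-- a four-group of `M` gives a four-group of `M / O(M)` -/
theorem four_mk {M : Subgroup G} {z w : G} (hz : z ∈ M) (hw : w ∈ M) (hF : Four z w) :
    Four (QuotientGroup.mk ⟨z, hz⟩ : ↥M ⧸ oddCore ↥M) (QuotientGroup.mk ⟨w, hw⟩) where
  aa := by
    rw [← QuotientGroup.mk_mul]
    exact congrArg QuotientGroup.mk (Subtype.ext hF.aa : (⟨z, hz⟩ : ↥M) * ⟨z, hz⟩ = 1)
  bb := by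
    rw [← QuotientGroup.mk_mul]
    exact congrArg QuotientGroup.mk (Subtype.ext hF.bb : (⟨w, hw⟩ : ↥M) * ⟨w, hw⟩ = 1)
  a1 := by
    intro h
    rw [mk_eq_one_iff] at h
    exact hF.a1 (eq_one_of_mem_core_sq h hF.aa)
  b1 := by
    intro h
    rw [mk_eq_one_iff] at h
    exact hF.b1 (eq_one_of_mem_core_sq h hF.bb)
  ne := by
    intro h
    rw [mk_eq_iff, inv_eq_of_mul_eq_one_left hF.aa] at h
    exact mul_self_ne hF.aa hF.ne (eq_one_of_mem_core_sq h (sq_mul hF.aa hF.bb hF.comm))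
  comm := by
    rw [← QuotientGroup.mk_mul, ← QuotientGroup.mk_mul]
    exact congrArg QuotientGroup.mk (Subtype.ext hF.comm : (⟨z, hz⟩ : ↥M) * ⟨w, hw⟩ = ⟨w, hw⟩ * ⟨z, hz⟩)

/-- **an element of `M` permuting `z ↦ w ↦ z w`** -/
theorem exact_rho {M : Subgroup G} (hT : L2T M) {z w : G} (hz : z ∈ M) (hw : w ∈ M) (hF : Four z w) :
    ∃ ρ ∈ M, ρ * z * ρ⁻¹ = w ∧ ρ * w * ρ⁻¹ = z * w := by
  obtain ⟨F, _, _, ⟨R⟩⟩ := hT
  obtain ⟨-, y, -, -, -, -, -, -, -, hy1, hy2, -⟩ := R.exists_frame (four_mk hz hw hF)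
  obtain ⟨⟨r, hr⟩, rfl⟩ := QuotientGroup.mk_surjective y
  have hzz := hF.aa
  have hww := hF.bb
  have hzi : z⁻¹ = z := inv_eq_of_mul_eq_one_left hzz
  have hsq : ∀ {b : G}, b * b = 1 → b ^ 2 ^ 1 = 1 := fun h => by rw [pow_one, pow_two, h]
  have hcj : ∀ (g : G) {b : G}, b * b = 1 → (g * b * g⁻¹) * (g * b * g⁻¹) = 1 := by
    intro g b h
    calc (g * b * g⁻¹) * (g * b * g⁻¹) = g * (b * b) * g⁻¹ := by group
      _ = 1 := by rw [h]; group
  have hnc : ∀ g ∈ M, g ∈ normalizer (core M : Set G) := fun g hg => le_normalizer_core M hg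
  -- first step
  have h1 : (r * z * r⁻¹)⁻¹ * w ∈ core M := by
    rw [← mk_eq_iff (M.mul_mem (M.mul_mem hr hz) (M.inv_mem hr)) hw]
    exact hy1
  obtain ⟨o, ho, ho1⟩ := Intrinsic.Lifting.exists_conj_eq (odd_card_core M) (n := 1) (m := 1)
    (hsq (hcj r hzz)) (hsq hww) (hnc _ (M.mul_mem (M.mul_mem hr hz) (M.inv_mem hr))) h1
  have hoM := core_le M ho
  obtain ⟨r1, hr1⟩ : ∃ r1, r1 = o * r := ⟨_, rfl⟩
  have hr1M : r1 ∈ M := by rw [hr1]; exact M.mul_mem hoM hr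
  have e1 : r1 * z * r1⁻¹ = w := by
    rw [← ho1, hr1]
    group
  -- second step
  have e2 : (r1 * w * r1⁻¹)⁻¹ * (z * w) ∈ core M := by
    have h2 : (QuotientGroup.mk ⟨r1, hr1M⟩ : ↥M ⧸ oddCore ↥M) = QuotientGroup.mk ⟨r, hr⟩ := by
      rw [mk_eq_iff hr1M hr, hr1]
      have h3 : (o * r)⁻¹ * r = r⁻¹ * o⁻¹ * r⁻¹⁻¹ := by group
      rw [h3]
      exact conj_core (M.inv_mem hr) (inv_mem ho)
    rw [← mk_eq_iff (M.mul_mem (M.mul_mem hr1M hw) (M.inv_mem hr1M)) (M.mul_mem hz hw)]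
    change (QuotientGroup.mk (⟨r1, hr1M⟩ * ⟨w, hw⟩ * ⟨r1, hr1M⟩⁻¹) : ↥M ⧸ oddCore ↥M) =
      QuotientGroup.mk (⟨z, hz⟩ * ⟨w, hw⟩)
    rw [QuotientGroup.mk_mul, QuotientGroup.mk_mul, QuotientGroup.mk_inv, h2, hy2,
      ← QuotientGroup.mk_mul]
  have e3 : (r1 * w * r1⁻¹) * w = w * (r1 * w * r1⁻¹) := by
    calc r1 * w * r1⁻¹ * w = r1 * w * r1⁻¹ * (r1 * z * r1⁻¹) := by rw [e1]
      _ = r1 * (w * z) * r1⁻¹ := by group
      _ = r1 * (z * w) * r1⁻¹ := by rw [hF.comm]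
      _ = (r1 * z * r1⁻¹) * (r1 * w * r1⁻¹) := by group
      _ = w * (r1 * w * r1⁻¹) := by rw [e1]
  have e4 : (z * w) * w = w * (z * w) := by rw [← mul_assoc w, ← hF.comm, mul_assoc]
  obtain ⟨o', ho', hc', ho1'⟩ := Intrinsic.Lifting.exists_conj_commute (odd_card_core M) (n := 1) (m := 1)
    (hsq (hcj r1 hww)) (hsq (sq_mul hzz hww hF.comm))
    (hnc _ (M.mul_mem (M.mul_mem hr1M hw) (M.inv_mem hr1M))) e3 e4 e2
  refine ⟨o' * r1, M.mul_mem (core_le M ho') hr1M, ?_, ?_⟩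
  · calc o' * r1 * z * (o' * r1)⁻¹ = o' * (r1 * z * r1⁻¹) * o'⁻¹ := by group
      _ = w := by rw [e1, hc', mul_inv_cancel_right]
  · rw [← ho1']
    group

end rho

end Cfsg.Agent.UGT.Q2K
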