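import Cfsg.Agent.UGT.Q2K.Key0

/-!
# UGT, inner `PSL₂(q)`, `|Q| = 2`: pump-ups for the Key Lemma

* `Pump c a z M N`: `N` is the pump-up in `C(c)` of the 2-component `M` of `C(c) ∩ C(a)`, `z ∈ M` an involution;
* `Pump.fixes`, `Pump.not_fixes`: the 2-components of `C(c)` moved by `z` are `N`, `N^a`;
* `Pump.perm`: `C(c) ∩ C(z)` permutes `{N, N^a}`;
* `Pump.diagonal`: if `s ∈ C(c) ∩ C(z)` and `a^s = a z`, then `N^a ≠ N`.
-/

set_option autoImplicit false

open Cfsg Subgroup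
open Cfsg.Agent.SignalizersComponents Cfsg.Agent.Lib
open Cfsg.Agent.SignalizersComponents.IntrinsicBasic
open Cfsg.Agent.SignalizersComponents.PLayerAut
open Cfsg.Agent.Intrinsic.Basic Cfsg.Agent.Intrinsic.Cen Cfsg.Agent.Intrinsic.Diag
open Cfsg.Agent.McLLyComp.Act
open Cfsg.Agent.UGT.Triple Cfsg.Agent.UGT.TriBase
open Cfsg.Agent.GH.L2Aut (Four)
open Cfsg.Agent.UGT.L2Inner (L2T)
open scoped commutatorElement

namespace Cfsg.Agent.UGT.Q2K

variable {G : Type*} [Group G]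

/-- transport of a representation -/
noncomputable def repCongr {F : Type*} [Field F] {A B : Type*} [Group A] [Group B] (R : GH.L2Aut.Rep F A)
    (e : A ≃* B) : GH.L2Aut.Rep F B where
  π := e.toMonoidHom.comp R.π
  surj := e.surjective.comp R.surj
  ker := fun x => by
    rw [← R.ker x]
    exact e.map_eq_one_iff
  two := R.two

theorem l2t_cj {N : Subgroup G} (h : L2T N) (g : G) : L2T (cj g N) := by
  obtain ⟨F, _, _, ⟨R⟩⟩ := h
  exact ⟨F, inferInstance, inferInstance, ⟨repCongr R (cjQuot g N)⟩⟩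

theorem l2t_center {N : Subgroup G} (h : L2T N) : center (↥N ⧸ oddCore ↥N) = ⊥ := by
  obtain ⟨F, _, _, ⟨R⟩⟩ := h
  exact R.center_eq_bot

/-- two elements of order 3 permuting `⟨z, w⟩` in the same way, one commuting with `c`, the other with `c z` -/
theorem absurd_rho {N : Subgroup G} [Finite G] (tN : L2T N) {c z w ρ ρ' : G} (hcN : c ∈ normalizer (N : Set G))
    (hzN : z ∈ N) (hwN : w ∈ N) (hρN : ρ ∈ N) (hρN' : ρ' ∈ N) (hF : Four z w) (hcz : c * z = z * c)
    (hcw : c * w = w * c) (h1 : ρ * z * ρ⁻¹ = w) (h2 : ρ * w * ρ⁻¹ = z * w) (e1 : ρ' * z * ρ'⁻¹ = w)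
    (e2 : ρ' * w * ρ'⁻¹ = z * w) (e3 : ρ * c = c * ρ) (e4 : ρ' * (c * z) = (c * z) * ρ') : False := by
  obtain ⟨F, _, _, ⟨R⟩⟩ := tN
  have hact : ∀ {u k : G} (hu : u ∈ normalizer (N : Set G)) (hk : k ∈ N), u * k = k * u →
      act N ⟨u, hu⟩ (QuotientGroup.mk ⟨k, hk⟩) = QuotientGroup.mk ⟨k, hk⟩ := by
    intro u k hu hk h
    rw [act_mk hu hk]
    congr 1
    exact Subtype.ext (by change u * k * u⁻¹ = k; rw [h, mul_inv_cancel_right])
  have hmk : ∀ {k k' l : G} (hk : k ∈ N) (hk' : k' ∈ N) (hl : l ∈ N), k * k' * k⁻¹ = l →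
      (QuotientGroup.mk ⟨k, hk⟩ : ↥N ⧸ oddCore ↥N) * QuotientGroup.mk ⟨k', hk'⟩ *
        (QuotientGroup.mk ⟨k, hk⟩)⁻¹ = QuotientGroup.mk ⟨l, hl⟩ := by
    intro k k' l hk hk' hl h
    rw [← QuotientGroup.mk_mul, ← QuotientGroup.mk_inv, ← QuotientGroup.mk_mul]
    congr 1
    exact Subtype.ext h
  refine no_two_rho R (four_mk hzN hwN hF) (α := act N ⟨c, hcN⟩)
    (r := QuotientGroup.mk ⟨ρ, hρN⟩) (r' := QuotientGroup.mk ⟨ρ', hρN'⟩)
    (hact hcN hzN hcz) (hact hcN hwN hcw) (hmk hρN hzN hwN h1) ?_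
    (hmk hρN' hzN hwN e1) ?_ (hact hcN hρN e3.symm) ?_
  · rw [hmk hρN hwN (mul_mem hzN hwN) h2]
    rfl
  · rw [hmk hρN' hwN (mul_mem hzN hwN) e2]
    rfl
  · have h1 : z * ρ' * z⁻¹ ∈ N := mul_mem (mul_mem hzN hρN') (inv_mem hzN)
    have h2 : (QuotientGroup.mk ⟨z, hzN⟩ : ↥N ⧸ oddCore ↥N) * QuotientGroup.mk ⟨ρ', hρN'⟩ *
        (QuotientGroup.mk ⟨z, hzN⟩)⁻¹ = QuotientGroup.mk ⟨z * ρ' * z⁻¹, h1⟩ := hmk hzN hρN' h1 rfl
    rw [h2, act_mk hcN h1]
    congr 1
    apply Subtype.ext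
    change c * (z * ρ' * z⁻¹) * c⁻¹ = ρ'
    calc c * (z * ρ' * z⁻¹) * c⁻¹ = (c * z) * ρ' * (c * z)⁻¹ := by group
      _ = ρ' := by rw [← e4, mul_inv_cancel_right]

/-- an element of `N` fixing `N` is in the core (`N / O(N)` centreless) -/
theorem core_of_fixes {N : Subgroup G} (hZ : center (↥N ⧸ oddCore ↥N) = ⊥) {k : G} (hk : k ∈ N)
    (hf : Fixes k N) : k ∈ core N := by
  rw [← act_eq_one_iff (le_normalizer hk), act_of_mem hk] at hf
  rw [← mk_eq_one_iff hk, ← mem_bot, ← hZ, mem_center_iff]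
  intro y
  have h1 := DFunLike.congr_fun hf y
  rw [MulAut.conj_apply, MulAut.one_apply] at h1
  exact (mul_inv_eq_iff_eq_mul.mp h1).symm

theorem center_cj {N : Subgroup G} (hZ : center (↥N ⧸ oddCore ↥N) = ⊥) (g : G) :
    center (↥(cj g N) ⧸ oddCore ↥(cj g N)) = ⊥ := by
  rw [eq_bot_iff]
  intro y hy
  obtain ⟨x, rfl⟩ := (cjQuot g N).surjective y
  have h1 : x ∈ center (↥N ⧸ oddCore ↥N) := by
    rw [mem_center_iff] at hy ⊢
    intro w
    apply (cjQuot g N).injective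
    rw [map_mul, map_mul]
    exact hy _
  rw [hZ, mem_bot] at h1
  rw [h1, map_one]
  exact one_mem _

/-- `N` is the pump-up in `C(c)` of the 2-component `M` of `C(c) ∩ C(a)`, `z ∈ M` an involution. -/
structure Pump (c a z : G) (M N : Subgroup G) : Prop where
  aa : a * a = 1
  ca : c * a = a * c
  zz : z * z = 1
  z1 : z ≠ 1
  zM : z ∈ M
  compM : IsComp (centralizer ({c} : Set G) ⊓ centralizer ({a} : Set G)) M
  compN : IsComp (centralizer ({c} : Set G)) N
  cN : center (↥N ⧸ oddCore ↥N) = ⊥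
  hor : (a ∈ normalizer (N : Set G) ∧ M ≤ N) ∨
    (cj a N ≠ N ∧ M = diag (centralizer ({c} : Set G)) N a)

namespace Pump

variable {c a z : G} {M N : Subgroup G}

theorem aC (P : Pump c a z M N) : a ∈ centralizer ({c} : Set G) := mem_c P.ca.symm

theorem cc (P : Pump c a z M N) : cj a (cj a N) = N := by rw [← cj_mul, P.aa, cj_one]

theorem ma (P : Pump c a z M N) {m : G} (hm : m ∈ M) : m * a = a * m := comm_c (P.compM.le hm).2

theorem mc (P : Pump c a z M N) {m : G} (hm : m ∈ M) : m * c = c * m := comm_c (P.compM.le hm).1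

theorem za (P : Pump c a z M N) : z * a = a * z := P.ma P.zM

theorem zc (P : Pump c a z M N) : z * c = c * z := P.mc P.zM

theorem comp' (P : Pump c a z M N) : IsComp (centralizer ({c} : Set G)) (cj a N) :=
  isComp_cj_of_mem P.compN P.aC

theorem swap (P : Pump c a z M N) : Pump c a z M (cj a N) where
  aa := P.aa
  ca := P.ca
  zz := P.zz
  z1 := P.z1
  zM := P.zM
  compM := P.compM
  compN := P.comp'
  cN := center_cj P.cN a
  hor := by
    rcases P.hor with ⟨h1, h2⟩ | ⟨h1, h2⟩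
    · left
      rw [mem_normalizer_iff_cj.mp h1]
      exact ⟨h1, h2⟩
    · right
      rw [P.cc]
      refine ⟨h1.symm, ?_⟩
      have h3 : cj a (diag (centralizer ({c} : Set G)) N a) = diag (centralizer ({c} : Set G)) (cj a N) a := by
        rw [cj_diag, cj_eq_self_of_mem P.aC, mul_inv_cancel_right]
      rw [← h3, ← h2]
      ext m
      rw [mem_cj]
      have ai : a⁻¹ = a := inv_eq_of_mul_eq_one_left P.aa
      constructor
      · intro hm
        have h4 : a⁻¹ * m * a = m := by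
          rw [mul_assoc, P.ma hm, ← mul_assoc, inv_mul_cancel, one_mul]
        rw [h4]
        exact hm
      · intro hm
        have h4 := P.ma hm
        have h5 : a⁻¹ * m * a = m := by
          have h6 : a * (a⁻¹ * m * a) = (a⁻¹ * m * a) * a := h4.symm
          have h7 : m * a = a⁻¹ * m * a * a := by
            rw [← h6]
            group
          have h8 : m = a⁻¹ * m * a := mul_right_cancel h7
          exact h8.symm
        rw [h5] at hm
        exact hm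

variable [Finite G]

/-- `z` moves `N` only inside -/
theorem not_fixes (P : Pump c a z M N) : ¬ Fixes z N := by
  rcases P.hor with ⟨-, h2⟩ | ⟨h1, h2⟩
  · exact fun hf => P.z1 (eq_one_of_mem_core_sq (core_of_fixes P.cN (h2 P.zM) hf) P.zz)
  · obtain ⟨-, h3, -⟩ := exists_diag P.compN P.aC P.aa h1
    have hz := P.zM
    rw [h2] at hz
    obtain ⟨k, hk, hzk⟩ := h3 z hz
    have hzX : z ∈ centralizer ({c} : Set G) := mem_c P.zc
    have h4 := fixes_inv_mul P.compN P.aC h1 hk hzX hzk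
    intro hf
    have h5 : Fixes k N := by
      have h6 := fixes_mul hf (fixes_inv h4)
      convert h6 using 1
      group
    have h6 := core_of_fixes P.cN hk h5
    have h7 : k ∈ core (centralizer ({c} : Set G)) := P.compN.core_le_core h6
    have h8 : a * k * a⁻¹ ∈ core (centralizer ({c} : Set G)) := conj_core P.aC h7
    have h9 : z ∈ core (centralizer ({c} : Set G)) := by
      have h10 : z = (k * (a * k * a⁻¹)) * (z⁻¹ * (k * (a * k * a⁻¹)))⁻¹ := by group
      rw [h10]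
      exact mul_mem (mul_mem h7 h8) (inv_mem hzk)
    exact P.z1 (eq_one_of_mem_core_sq h9 P.zz)

/-- `z` fixes the 2-components different from `N`, `N^a` -/
theorem fixes (P : Pump c a z M N) {J : Subgroup G} (hJ : IsComp (centralizer ({c} : Set G)) J)
    (h1 : J ≠ N) (h2 : J ≠ cj a N) : Fixes z J := by
  rcases P.hor with ⟨-, h3⟩ | ⟨h3, h4⟩
  · exact hJ.fixes_of_mem P.compN h1 (h3 P.zM)
  · have hz := P.zM
    rw [h4] at hz
    exact L2Inner.fixes_of_comm_core hJ (mem_c P.zc) fun k hk =>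
      comm_diag_of_ne P.compN P.aC P.aa h3 hJ h1 h2 hz hk

/-- `C(c) ∩ C(z)` permutes `{N, N^a}` -/
theorem perm (P : Pump c a z M N) {g : G} (hc : g * c = c * g) (hz : g * z = z * g) :
    cj g N = N ∨ cj g N = cj a N := by
  by_contra hcon
  rw [not_or] at hcon
  have h1 := P.fixes (isComp_cj_of_mem P.compN (mem_c hc)) hcon.1 hcon.2
  apply P.not_fixes
  have h2 := h1.cj g⁻¹
  rw [cj_inv_cj] at h2
  convert h2 using 1
  rw [inv_inv, mul_assoc, ← hz, ← mul_assoc, inv_mul_cancel, one_mul]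

theorem perm2 (P : Pump c a z M N) {g : G} (hc : g * c = c * g) (hz : g * z = z * g) :
    (cj g N = N ∧ cj g (cj a N) = cj a N) ∨ (cj g N = cj a N ∧ cj g (cj a N) = N) := by
  have h1 := P.perm hc hz
  have h2 := P.swap.perm hc hz
  rw [P.cc] at h2
  rcases h1 with h1 | h1 <;> rcases h2 with h2 | h2
  · exact Or.inl ⟨h1, h2⟩
  · have h3 : cj a N = N := cj_injective g (h2.trans h1.symm)
    exact Or.inl ⟨h1, by rw [h2, h3]⟩
  · have h3 : cj a N = N := cj_injective g (h2.trans h1.symm)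
    exact Or.inl ⟨by rw [h1, h3], h2⟩
  · exact Or.inr ⟨h1, h2⟩

/-- the elements of `M` normalize every 2-component of `C(c)` -/
theorem norm (P : Pump c a z M N) {m : G} (hm : m ∈ M) {J : Subgroup G}
    (hJ : IsComp (centralizer ({c} : Set G)) J) : m ∈ normalizer (J : Set G) := by
  have key : ∀ J' : Subgroup G, IsComp (centralizer ({c} : Set G)) J' → ∀ k ∈ J', k ∈ normalizer (J : Set G) := by
    intro J' hJ' k hk
    by_cases h : J = J'
    · rw [h]
      exact le_normalizer hk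
    · exact (hJ.fixes_of_mem hJ' h hk).1
  rcases P.hor with ⟨-, h3⟩ | ⟨h3, h4⟩
  · exact key N P.compN m (h3 hm)
  · obtain ⟨-, h5, -⟩ := exists_diag P.compN P.aC P.aa h3
    rw [h4] at hm
    obtain ⟨k, hk, hmk⟩ := h5 m hm
    have h10 : m = (k * (a * k * a⁻¹)) * (m⁻¹ * (k * (a * k * a⁻¹)))⁻¹ := by group
    rw [h10]
    exact mul_mem (mul_mem (key N P.compN k hk) (key _ P.comp' _ (conj_mem_cj hk)))
      (inv_mem (hJ.fixes_of_core hmk).1)

/-- **`N` is moved by `a`** if `a` and `a z` are conjugate in `C(c) ∩ C(z)` and a four-group containing `z` is in `M`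
and in its conjugate -/
theorem diagonal (P : Pump c a z M N) (tM : L2T M) (tN : L2T N) {s w : G} (hsc : s * c = c * s) (hsz : s * z = z * s)
    (hsa : s * a * s⁻¹ = a * z) (hF : Four z w) (hw : w ∈ M) (hw' : s⁻¹ * w * s ∈ M) :
    cj a N ≠ N ∧ M = diag (centralizer ({c} : Set G)) N a := by
  rcases P.hor with ⟨haN, hMN⟩ | h
  swap
  · exact h
  exfalso
  have hsN : cj s N = N := by
    have h1 := P.perm hsc hsz
    rw [mem_normalizer_iff_cj.mp haN] at h1
    rcases h1 with h1 | h1 <;> exact h1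
  have hsN' : s ∈ normalizer (N : Set G) := mem_normalizer_iff_cj.mpr hsN
  -- `ρ`
  obtain ⟨ρ, hρ, hρ1, hρ2⟩ := exact_rho tM P.zM hw hF
  have hsz' : s⁻¹ * z * s = z := by rw [mul_assoc, ← hsz, ← mul_assoc, inv_mul_cancel, one_mul]
  have hF' : Four z (s⁻¹ * w * s) := by
    have h1 := hF.map (MulAut.conj s⁻¹)
    rw [MulAut.conj_apply, MulAut.conj_apply, inv_inv, hsz'] at h1
    exact h1
  obtain ⟨ρ'', hρ'', hρ1'', hρ2''⟩ := exact_rho tM P.zM hw' hF'
  obtain ⟨ρ', hρ'⟩ : ∃ ρ', ρ' = s * ρ'' * s⁻¹ := ⟨_, rfl⟩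
  have hρN : ρ ∈ N := hMN hρ
  have hρN' : ρ' ∈ N := by
    rw [hρ']
    exact (mem_normalizer_iff.mp hsN' _).mp (hMN hρ'')
  have e1 : ρ' * z * ρ'⁻¹ = w := by
    have h1 : s⁻¹ * z * s = z := hsz'
    calc ρ' * z * ρ'⁻¹ = s * (ρ'' * (s⁻¹ * z * s) * ρ''⁻¹) * s⁻¹ := by rw [hρ']; group
      _ = s * (s⁻¹ * w * s) * s⁻¹ := by rw [h1, hρ1'']
      _ = w := by group
  have e2 : ρ' * w * ρ'⁻¹ = z * w := by
    calc ρ' * w * ρ'⁻¹ = s * (ρ'' * (s⁻¹ * w * s) * ρ''⁻¹) * s⁻¹ := by rw [hρ']; group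
      _ = (s * z * s⁻¹) * w := by rw [hρ2'']; group
      _ = z * w := by rw [hsz, mul_inv_cancel_right]
  -- `a` commutes with `ρ`, `a z` with `ρ'`
  have e3 : ρ * a = a * ρ := P.ma hρ
  have e4 : ρ' * (a * z) = (a * z) * ρ' := by
    have h1 := P.ma hρ''
    calc ρ' * (a * z) = s * (ρ'' * a) * s⁻¹ := by rw [hρ', ← hsa]; group
      _ = s * (a * ρ'') * s⁻¹ := by rw [h1]
      _ = _ := by rw [hρ', ← hsa]; group
  have hzN : z ∈ N := hMN P.zM
  have hwN : w ∈ N := hMN hw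
  exact absurd_rho tN haN hzN hwN hρN hρN' hF P.za.symm (P.ma hw).symm hρ1 hρ2 e1 e2 e3 e4

end Pump

end Cfsg.Agent.UGT.Q2K
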