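import Cfsg.Agent.UGT.L2Inner.WBField

/-!
# UGT, inner `PSL₂(q)`, `|Q| = 2` (Theorem Q2, bb #13005): splitting a diagonal subgroup

* `exists_section`: a surjection with kernel of odd order has a section over a 2-subgroup, the identity on a given
  2-subgroup;
* `exists_split`: `K`, `K^a` 2-components of `X` with `K / O(K)` centreless, `E ≤ diag X K a` a 2-group, normalized by
  the 2-group `D ≤ N(K) ∩ C(a)`: a homomorphism `ι : E → K` with `e = ι(e) ι(e)^a`, equivariant under `D`;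
* `exists_iso`: `K / O(K) ≅ diag / O(diag)`, equivariant under `N(K) ∩ C(a)`.
-/

set_option autoImplicit false

open Cfsg Subgroup
open Cfsg.Agent.SignalizersComponents Cfsg.Agent.Lib
open Cfsg.Agent.SignalizersComponents.IntrinsicBasic
open Cfsg.Agent.SignalizersComponents.PLayerAut
open Cfsg.Agent.Intrinsic.Basic Cfsg.Agent.Intrinsic.Cen Cfsg.Agent.Intrinsic.Diag
open Cfsg.Agent.McLLyComp.Act
open Cfsg.Agent.UGT.Triple Cfsg.Agent.UGT.TriBase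
open scoped commutatorElement

namespace Cfsg.Agent.UGT.Q2K

section abs

variable {A Y : Type*} [Group A] [Group Y] [Finite A]

/-- a surjection with kernel of odd order has a section over a 2-subgroup `H`, the identity on a 2-subgroup `B` -/
theorem exists_section (π : A →* Y) (hπ : Function.Surjective π) (hodd : Odd (Nat.card π.ker))
    {H : Subgroup Y} (hH : IsPGroup 2 H) {B : Subgroup A} (hB : IsPGroup 2 B) (hBH : ∀ b ∈ B, π b ∈ H) :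
    ∃ lam : ↥H →* A, (∀ h, π (lam h) = h) ∧ ∀ b (hb : b ∈ B), lam ⟨π b, hBH b hb⟩ = b := by
  have : Fact (Nat.Prime 2) := ⟨Nat.prime_two⟩
  have : Finite Y := Finite.of_surjective π hπ
  obtain ⟨C, hC⟩ : ∃ C, C = H.comap π := ⟨_, rfl⟩
  have hBC : B ≤ C := fun b hb => by rw [hC]; exact hBH b hb
  have hCH : ∀ c ∈ C, π c ∈ H := fun c hc => by rw [hC] at hc; exact hc
  -- a 2-subgroup of `C` containing `B` of odd index
  have hB' : IsPGroup 2 (B.subgroupOf C) := hB.comap_of_injective _ C.subtype_injective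
  obtain ⟨S, hS⟩ := hB'.exists_le_sylow
  -- `φ : C → H`
  let φ : ↥C →* ↥H :=
    { toFun := fun c => ⟨π (c : A), hCH c c.2⟩
      map_one' := Subtype.ext (map_one π)
      map_mul' := fun x y => Subtype.ext (map_mul π (x : A) (y : A)) }
  have hφ : ∀ c, ((φ c : ↥H) : Y) = π c := fun _ => rfl
  have hφs : Function.Surjective φ := by
    rintro ⟨h, hh⟩
    obtain ⟨c, rfl⟩ := hπ h
    exact ⟨⟨c, by rw [hC]; exact hh⟩, rfl⟩
  have htop : (S : Subgroup ↥C).map φ = ⊤ := by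
    rw [← Subgroup.index_eq_one]
    have h1 : ((S : Subgroup ↥C).map φ).index ∣ (S : Subgroup ↥C).index := Subgroup.index_map_dvd _ hφs
    have h2 : ¬ 2 ∣ (S : Subgroup ↥C).index := S.not_dvd_index
    obtain ⟨n, hn⟩ := hH.exists_card_eq
    have h3 : ((S : Subgroup ↥C).map φ).index ∣ 2 ^ n := hn ▸ Subgroup.index_dvd_card _
    obtain ⟨m, -, hm⟩ := (Nat.dvd_prime_pow Nat.prime_two).mp h3
    rcases Nat.eq_zero_or_pos m with h0 | h0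
    · rw [hm, h0, pow_zero]
    · exact absurd ((dvd_pow_self 2 h0.ne').trans (hm ▸ h1)) h2
  let ψ : ↥(S : Subgroup ↥C) →* ↥H := φ.comp (S : Subgroup ↥C).subtype
  have hψs : Function.Surjective ψ := by
    intro h
    have h1 : h ∈ (S : Subgroup ↥C).map φ := by rw [htop]; trivial
    obtain ⟨s, hs, rfl⟩ := h1
    exact ⟨⟨s, hs⟩, rfl⟩
  have hψi : Function.Injective ψ := by
    rw [injective_iff_map_eq_one]
    rintro ⟨s, hs⟩ h
    have h1 : π s = 1 := congrArg Subtype.val h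
    obtain ⟨k, hk⟩ := S.isPGroup' ⟨s, hs⟩
    have h2 : ((s : ↥C) : A) ^ 2 ^ k = 1 := congrArg (fun y : ↥(S : Subgroup ↥C) => ((y : ↥C) : A)) hk
    have h3 := Intrinsic.Lifting.eq_one_of_odd (N := π.ker) hodd (MonoidHom.mem_ker.mpr h1) h2
    exact Subtype.ext (Subtype.ext h3)
  let e := MulEquiv.ofBijective ψ ⟨hψi, hψs⟩
  have he : ∀ s, e s = ψ s := fun _ => rfl
  refine ⟨(C.subtype.comp (S : Subgroup ↥C).subtype).comp e.symm.toMonoidHom, fun h => ?_,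
    fun b hb => ?_⟩
  · obtain ⟨s, rfl⟩ := e.surjective h
    change π (C.subtype ((S : Subgroup ↥C).subtype (e.symm (e s)))) = _
    rw [e.symm_apply_apply]
    rfl
  · have hbS : (⟨b, hBC hb⟩ : ↥C) ∈ (S : Subgroup ↥C) := hS (mem_subgroupOf.mpr hb)
    have h1 : e ⟨⟨b, hBC hb⟩, hbS⟩ = ⟨π b, hBH b hb⟩ := rfl
    change C.subtype ((S : Subgroup ↥C).subtype (e.symm ⟨π b, hBH b hb⟩)) = b
    rw [← h1, e.symm_apply_apply]
    rfl

end abs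

section pair

variable {Y : Type*} [Group Y] {Kb : Subgroup Y} {ab : Y}

/-- `Kb` and `Kb^ab` commute, `Kb` is centreless -/
structure Pr (Kb : Subgroup Y) (ab : Y) : Prop where
  comm : ∀ y ∈ Kb, ∀ y' ∈ Kb, y * (ab * y' * ab⁻¹) = (ab * y' * ab⁻¹) * y
  cen : ∀ y ∈ Kb, (∀ y' ∈ Kb, y * y' = y' * y) → y = 1
  sq : ab * ab = 1

theorem Pr.unique (P : Pr Kb ab) {k l : Y} (hk : k ∈ Kb) (hl : l ∈ Kb)
    (h : k * (ab * k * ab⁻¹) = l * (ab * l * ab⁻¹)) : k = l := by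
  have h1 : l⁻¹ * k = ab * (l * k⁻¹) * ab⁻¹ := by
    have h2 : k = l * (ab * l * ab⁻¹) * (ab * k * ab⁻¹)⁻¹ := eq_mul_inv_of_mul_eq h
    calc l⁻¹ * k = l⁻¹ * (l * (ab * l * ab⁻¹) * (ab * k * ab⁻¹)⁻¹) := by rw [← h2]
      _ = _ := by group
  have h3 : l⁻¹ * k = 1 := by
    refine P.cen _ (mul_mem (inv_mem hl) hk) fun y' hy' => ?_
    rw [h1]
    exact (P.comm y' hy' _ (mul_mem hl (inv_mem hk))).symm
  exact (inv_mul_eq_one.mp h3).symm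

theorem Pr.aba (P : Pr Kb ab) (y : Y) : ab * (ab * y * ab⁻¹) * ab⁻¹ = y := by
  calc ab * (ab * y * ab⁻¹) * ab⁻¹ = (ab * ab) * y * (ab * ab)⁻¹ := by group
    _ = y := by rw [P.sq]; group

/-- splitting a homomorphism into the diagonal -/
theorem Pr.exists_hom (P : Pr Kb ab) {E : Type*} [Group E] (ε : E →* Y)
    (h : ∀ e, ∃ k ∈ Kb, ε e = k * (ab * k * ab⁻¹)) :
    ∃ κ : E →* Y, ∀ e, κ e ∈ Kb ∧ ε e = κ e * (ab * κ e * ab⁻¹) := by
  choose κ hκ hε using h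
  refine ⟨MonoidHom.mk' κ fun e e' => ?_, fun e => ⟨hκ e, hε e⟩⟩
  refine P.unique (hκ _) (mul_mem (hκ e) (hκ e')) ?_
  have h1 := P.comm _ (hκ e') _ (hκ e)
  calc κ (e * e') * (ab * κ (e * e') * ab⁻¹) = ε (e * e') := (hε _).symm
    _ = ε e * ε e' := map_mul ε e e'
    _ = κ e * (ab * κ e * ab⁻¹) * (κ e' * (ab * κ e' * ab⁻¹)) := by rw [← hε, ← hε]
    _ = κ e * ((ab * κ e * ab⁻¹) * κ e') * (ab * κ e' * ab⁻¹) := by group
    _ = κ e * (κ e' * (ab * κ e * ab⁻¹)) * (ab * κ e' * ab⁻¹) := by rw [h1]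
    _ = _ := by group

theorem mem_normalizer_sup {g : Y} {A B : Subgroup Y} (hA : ∀ y ∈ A, g * y * g⁻¹ ∈ A ⊔ B)
    (hB : ∀ y ∈ B, g * y * g⁻¹ ∈ A ⊔ B) : ∀ y ∈ A ⊔ B, g * y * g⁻¹ ∈ A ⊔ B := by
  intro y hy
  have h1 : (A ⊔ B).map (MulAut.conj g).toMonoidHom ≤ A ⊔ B := by
    rw [Subgroup.map_sup]
    refine sup_le ?_ ?_
    · rintro _ ⟨y, hy, rfl⟩
      exact hA y hy
    · rintro _ ⟨y, hy, rfl⟩
      exact hB y hy
  exact h1 ⟨y, hy, rfl⟩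

/-- the 2-group containing the splitting -/
theorem Pr.exists_group (P : Pr Kb ab) {E : Type*} [Group E] (hE : IsPGroup 2 E) (κ : E →* Y)
    (hκ : ∀ e, κ e ∈ Kb) {D : Subgroup Y} (hD : IsPGroup 2 D) (hDa : ∀ d ∈ D, d * ab = ab * d)
    (hDκ : ∀ d ∈ D, ∀ e, ∃ e', d * κ e * d⁻¹ = κ e') :
    ∃ H : Subgroup Y, IsPGroup 2 H ∧ (∀ e, κ e ∈ H) ∧ D ≤ H ∧ ab ∈ H := by
  obtain ⟨A, hA⟩ : ∃ A, A = κ.range := ⟨_, rfl⟩
  obtain ⟨A', hA'⟩ : ∃ A', A' = A.map (MulAut.conj ab).toMonoidHom := ⟨_, rfl⟩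
  have hA2 : IsPGroup 2 A := by
    rw [hA]
    exact hE.of_surjective κ.rangeRestrict κ.rangeRestrict_surjective
  have hA2' : IsPGroup 2 A' := by rw [hA']; exact hA2.map _
  have hAK : ∀ y ∈ A, y ∈ Kb := by
    rw [hA]
    rintro _ ⟨e, rfl⟩
    exact hκ e
  have hm' : ∀ y ∈ A, ab * y * ab⁻¹ ∈ A' := by
    intro y hy
    rw [hA']
    exact ⟨y, hy, rfl⟩
  have hm : ∀ y ∈ A', ab * y * ab⁻¹ ∈ A := by
    intro y hy
    rw [hA'] at hy
    obtain ⟨w, hw, rfl⟩ := hy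
    have h1 : ab * (MulAut.conj ab).toMonoidHom w * ab⁻¹ = w := P.aba w
    rw [h1]
    exact hw
  have hcomm : ∀ y ∈ A, ∀ y' ∈ A', y * y' = y' * y := by
    intro y hy y' hy'
    rw [hA'] at hy'
    obtain ⟨w, hw, rfl⟩ := hy'
    exact P.comm y (hAK y hy) w (hAK w hw)
  have hnA : A ≤ normalizer (A' : Set Y) := by
    refine L2Inner.le_normalizer_of fun y hy y' hy' => ?_
    rw [hcomm y hy y' hy', mul_inv_cancel_right]
    exact hy'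
  have hN : IsPGroup 2 ↥(A ⊔ A') := hA2.to_sup_of_normal_right' hA2' hnA
  have hz2 : IsPGroup 2 (zpowers ab) := by
    rw [IsPGroup.iff_orderOf]
    rintro ⟨g, hg⟩
    obtain ⟨n, rfl⟩ := mem_zpowers_iff.mp hg
    have h1 : orderOf (⟨ab ^ n, hg⟩ : zpowers ab) ∣ 2 := by
      rw [Subgroup.orderOf_mk]
      apply orderOf_dvd_of_pow_eq_one
      rw [← zpow_natCast, ← zpow_mul, mul_comm, zpow_mul, zpow_natCast, pow_two, P.sq, one_zpow]
    exact (Nat.dvd_prime Nat.prime_two).mp h1 |>.elim (fun h => ⟨0, by rw [h, pow_zero]⟩)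
      (fun h => ⟨1, by rw [h, pow_one]⟩)
  have hDz : D ≤ normalizer (zpowers ab : Set Y) := by
    refine L2Inner.le_normalizer_of fun d hd j hj => ?_
    obtain ⟨n, rfl⟩ := mem_zpowers_iff.mp hj
    have h1 : Commute d (ab ^ n) := (show Commute d ab from hDa d hd).zpow_right n
    rw [h1.eq, mul_inv_cancel_right]
    exact hj
  have hB2 : IsPGroup 2 ↥(D ⊔ zpowers ab) := hD.to_sup_of_normal_right' hz2 hDz
  have hD' : D ≤ normalizer ((A ⊔ A' : Subgroup Y) : Set Y) := by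
    refine L2Inner.le_normalizer_of fun d hd => mem_normalizer_sup ?_ ?_
    · intro y hy
      apply mem_sup_left
      rw [hA] at hy ⊢
      obtain ⟨e, rfl⟩ := hy
      obtain ⟨e', he'⟩ := hDκ d hd e
      exact ⟨e', he'.symm⟩
    · intro y hy
      apply mem_sup_right
      have h1 := hm y hy
      rw [hA] at h1
      obtain ⟨e, he⟩ := h1
      obtain ⟨e', he'⟩ := hDκ d hd e
      have h2 : d * y * d⁻¹ = ab * (d * κ e * d⁻¹) * ab⁻¹ := by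
        have h3 : y = ab * κ e * ab⁻¹ := by rw [he, P.aba]
        have h4 := hDa d hd
        calc d * y * d⁻¹ = (d * ab) * κ e * (d * ab)⁻¹ := by rw [h3]; group
          _ = _ := by rw [h4]; group
      rw [h2, he']
      apply hm'
      rw [hA]
      exact ⟨e', rfl⟩
  have hz' : zpowers ab ≤ normalizer ((A ⊔ A' : Subgroup Y) : Set Y) := by
    rw [zpowers_le]
    have h1 : ∀ j ∈ A ⊔ A', ab * j * ab⁻¹ ∈ A ⊔ A' := mem_normalizer_sup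
      (fun y hy => mem_sup_right (hm' y hy)) (fun y hy => mem_sup_left (hm y hy))
    rw [mem_normalizer_iff]
    intro j
    refine ⟨h1 j, fun hj => ?_⟩
    have h2 := h1 _ hj
    rwa [P.aba] at h2
  have hB' : D ⊔ zpowers ab ≤ normalizer ((A ⊔ A' : Subgroup Y) : Set Y) := sup_le hD' hz'
  refine ⟨(D ⊔ zpowers ab) ⊔ (A ⊔ A'), hB2.to_sup_of_normal_right' hN hB', fun e => ?_,
    le_sup_left.trans le_sup_left, mem_sup_left (mem_sup_right (mem_zpowers ab))⟩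
  apply mem_sup_right
  apply mem_sup_left
  rw [hA]
  exact ⟨e, rfl⟩

end pair

section split

variable {G : Type*} [Group G] [Finite G] {X K : Subgroup G} {a : G}

/-- the image of `K`, `a` in `X / O(X)` -/
theorem pr_of_comp (hK : IsComp X K) (hZ : center (↥K ⧸ oddCore ↥K) = ⊥) (haX : a ∈ X) (haa : a * a = 1)
    (hne : cj a K ≠ K) : Pr ((K.subgroupOf X).map (QuotientGroup.mk' (oddCore ↥X)))
      (QuotientGroup.mk' (oddCore ↥X) ⟨a, haX⟩) where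
  comm := by
    rintro _ ⟨⟨k, hkX⟩, hk, rfl⟩ _ ⟨⟨l, hlX⟩, hl, rfl⟩
    exact mk_comm hK (isComp_cj_of_mem hK haX) (Ne.symm hne) hk (conj_mem_cj hl)
  cen := by
    rintro _ ⟨⟨k, hkX⟩, hk, rfl⟩ h
    have hk' : k ∈ K := hk
    have h1 : (QuotientGroup.mk ⟨k, hk'⟩ : ↥K ⧸ oddCore ↥K) ∈ center (↥K ⧸ oddCore ↥K) := by
      rw [mem_center_iff]
      intro y
      obtain ⟨⟨l, hl⟩, rfl⟩ := QuotientGroup.mk_surjective y
      have h2 := h _ ⟨⟨l, hK.le hl⟩, hl, rfl⟩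
      have h3 := (commutator_mem_core_iff (hK.le hk') (hK.le hl)).mpr h2
      have h4' : ⁅k, l⁆ ∈ K := by
        rw [commutatorElement_def]
        exact K.mul_mem (K.mul_mem (K.mul_mem hk' hl) (K.inv_mem hk')) (K.inv_mem hl)
      have h4 : ⁅k, l⁆ ∈ core K := by
        rw [hK.core_eq]
        exact ⟨h4', h3⟩
      rw [← QuotientGroup.mk_mul, ← QuotientGroup.mk_mul]
      change (QuotientGroup.mk (⟨l * k, mul_mem hl hk'⟩ : ↥K) : ↥K ⧸ oddCore ↥K) =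
        QuotientGroup.mk (⟨k * l, mul_mem hk' hl⟩ : ↥K)
      rw [mk_eq_iff]
      have h5 : (l * k)⁻¹ * (k * l) = (l * k)⁻¹ * ⁅k, l⁆ * (l * k) := by
        rw [commutatorElement_def]
        group
      rw [h5]
      have h6 := conj_mem_core (le_normalizer (K.inv_mem (K.mul_mem hl hk'))) h4
      rwa [inv_inv] at h6
    rw [hZ, mem_bot, mk_eq_one_iff hk'] at h1
    have h2 : k ∈ core X := hK.core_le_core h1
    exact (mem_relCore_iff hkX).mp h2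
  sq := by
    rw [← map_mul, ← map_one (QuotientGroup.mk' (oddCore ↥X))]
    congr 1
    exact Subtype.ext haa

/-- **splitting a 2-subgroup of the diagonal** -/
theorem exists_split (hK : IsComp X K) (hZ : center (↥K ⧸ oddCore ↥K) = ⊥) (haX : a ∈ X) (haa : a * a = 1)
    (hne : cj a K ≠ K) {D E : Subgroup G} (hD : IsPGroup 2 D) (hDX : D ≤ X)
    (hDK : D ≤ normalizer (K : Set G)) (hDa : ∀ d ∈ D, d * a = a * d) (hED : E ≤ D)
    (hE : E ≤ diag X K a) (hn : ∀ d ∈ D, ∀ e ∈ E, d * e * d⁻¹ ∈ E) :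
    ∃ ι : ↥E →* G, (∀ e, ι e ∈ K) ∧ (∀ e e', ι e * (a * ι e' * a⁻¹) = (a * ι e' * a⁻¹) * ι e) ∧
      (∀ e : ↥E, (e : G) = ι e * (a * ι e * a⁻¹)) ∧
      ∀ (d : G) (hd : d ∈ D) (e : ↥E), d * ι e * d⁻¹ = ι ⟨d * e * d⁻¹, hn d hd e e.2⟩ := by
  obtain ⟨-, hdiag, -, -, -⟩ := exists_diag hK haX haa hne
  have P := pr_of_comp hK hZ haX haa hne
  obtain ⟨π, hπ⟩ : ∃ π, π = QuotientGroup.mk' (oddCore ↥X) := ⟨_, rfl⟩
  obtain ⟨Kb, hKb⟩ : ∃ Kb, Kb = (K.subgroupOf X).map π := ⟨_, rfl⟩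
  rw [← hπ, ← hKb] at P
  have hEX : E ≤ X := hED.trans hDX
  have hmk : ∀ k (hk : k ∈ K), π ⟨k, hK.le hk⟩ ∈ Kb := by
    intro k hk
    rw [hKb]
    exact ⟨_, hk, rfl⟩
  let ε : ↥E →* (↥X ⧸ oddCore ↥X) := π.comp (inclusion hEX)
  have hε : ∀ e : ↥E, ε e = π ⟨e, hEX e.2⟩ := fun _ => rfl
  obtain ⟨κ, hκ⟩ := P.exists_hom ε fun e => by
    obtain ⟨k, hk, hmk'⟩ := hdiag e (hE e.2)
    refine ⟨_, hmk k hk, ?_⟩
    rw [hε, hπ]
    exact mk_of_diag hK haX (hEX e.2) hk hmk'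
  -- equivariance of `κ`
  have hnX : ∀ d (hd : d ∈ D) (y : ↥X ⧸ oddCore ↥X), y ∈ Kb →
      π ⟨d, hDX hd⟩ * y * (π ⟨d, hDX hd⟩)⁻¹ ∈ Kb := by
    intro d hd y hy
    rw [hKb] at hy ⊢
    obtain ⟨⟨k, hkX⟩, hk, rfl⟩ := hy
    refine ⟨⟨d, hDX hd⟩ * ⟨k, hkX⟩ * ⟨d, hDX hd⟩⁻¹, ?_, by rw [map_mul, map_mul, map_inv]⟩
    change d * k * d⁻¹ ∈ K
    exact Cfsg.Agent.McLLyComp.Act.conj_mem (hDK hd) hk
  have hcomm : ∀ d (hd : d ∈ D), π ⟨d, hDX hd⟩ * π ⟨a, haX⟩ = π ⟨a, haX⟩ * π ⟨d, hDX hd⟩ := by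
    intro d hd
    rw [← map_mul, ← map_mul]
    congr 1
    exact Subtype.ext (hDa d hd)
  have hκn : ∀ (d : G) (hd : d ∈ D) (e : ↥E), π ⟨d, hDX hd⟩ * κ e * (π ⟨d, hDX hd⟩)⁻¹ =
      κ ⟨d * e * d⁻¹, hn d hd e e.2⟩ := by
    intro d hd e
    refine P.unique (hnX d hd _ (hκ e).1) (hκ _).1 ?_
    rw [← (hκ _).2, hε]
    have h1 : π ⟨a, haX⟩ * (π ⟨d, hDX hd⟩ * κ e * (π ⟨d, hDX hd⟩)⁻¹) * (π ⟨a, haX⟩)⁻¹ =
        π ⟨d, hDX hd⟩ * (π ⟨a, haX⟩ * κ e * (π ⟨a, haX⟩)⁻¹) * (π ⟨d, hDX hd⟩)⁻¹ := by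
      have h2 := hcomm d hd
      calc _ = (π ⟨a, haX⟩ * π ⟨d, hDX hd⟩) * κ e * (π ⟨a, haX⟩ * π ⟨d, hDX hd⟩)⁻¹ := by group
        _ = (π ⟨d, hDX hd⟩ * π ⟨a, haX⟩) * κ e * (π ⟨d, hDX hd⟩ * π ⟨a, haX⟩)⁻¹ := by rw [h2]
        _ = _ := by group
    rw [h1]
    have h2 : π ⟨d, hDX hd⟩ * κ e * (π ⟨d, hDX hd⟩)⁻¹ *
        (π ⟨d, hDX hd⟩ * (π ⟨a, haX⟩ * κ e * (π ⟨a, haX⟩)⁻¹) * (π ⟨d, hDX hd⟩)⁻¹) =
        π ⟨d, hDX hd⟩ * (κ e * (π ⟨a, haX⟩ * κ e * (π ⟨a, haX⟩)⁻¹)) * (π ⟨d, hDX hd⟩)⁻¹ := by group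
    rw [h2, ← (hκ e).2, hε, ← map_inv, ← map_mul, ← map_mul]
    rfl
  -- the 2-group
  have hDb : IsPGroup 2 ↥((D.subgroupOf X).map π) :=
    (hD.comap_of_injective _ X.subtype_injective).map _
  obtain ⟨H, hH, hκH, hDH, haH⟩ := P.exists_group (hD.to_le hED) κ (fun e => (hκ e).1) hDb
    (by
      rintro _ ⟨⟨d, hdX⟩, hd, rfl⟩
      exact hcomm d hd)
    (by
      rintro _ ⟨⟨d, hdX⟩, hd, rfl⟩ e
      exact ⟨_, hκn d hd e⟩)
  -- `B = D <a>`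
  obtain ⟨B, hB⟩ : ∃ B, B = D.subgroupOf X ⊔ zpowers (⟨a, haX⟩ : ↥X) := ⟨_, rfl⟩
  have hBH : ∀ b ∈ B, π b ∈ H := by
    have h1 : B ≤ H.comap π := by
      rw [hB]
      refine sup_le ?_ ?_
      · intro d hd
        exact hDH ⟨d, hd, rfl⟩
      · rw [zpowers_le]
        exact haH
    exact fun b hb => h1 hb
  have hB2 : IsPGroup 2 B := by
    rw [hB]
    refine (hD.comap_of_injective _ X.subtype_injective).to_sup_of_normal_right' ?_ ?_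
    · rw [IsPGroup.iff_orderOf]
      rintro ⟨g, hg⟩
      obtain ⟨n, rfl⟩ := mem_zpowers_iff.mp hg
      have h1 : orderOf (⟨(⟨a, haX⟩ : ↥X) ^ n, hg⟩ : zpowers (⟨a, haX⟩ : ↥X)) ∣ 2 := by
        rw [Subgroup.orderOf_mk]
        apply orderOf_dvd_of_pow_eq_one
        have h2 : (⟨a, haX⟩ : ↥X) * ⟨a, haX⟩ = 1 := Subtype.ext haa
        rw [← zpow_natCast, ← zpow_mul, mul_comm, zpow_mul, zpow_natCast, pow_two, h2, one_zpow]
      exact (Nat.dvd_prime Nat.prime_two).mp h1 |>.elim (fun h => ⟨0, by rw [h, pow_zero]⟩)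
        (fun h => ⟨1, by rw [h, pow_one]⟩)
    · refine L2Inner.le_normalizer_of fun d hd j hj => ?_
      obtain ⟨n, rfl⟩ := mem_zpowers_iff.mp hj
      have h0 : Commute d (⟨a, haX⟩ : ↥X) := Subtype.ext (hDa d hd)
      have h1 : Commute d ((⟨a, haX⟩ : ↥X) ^ n) := h0.zpow_right n
      rw [h1.eq, mul_inv_cancel_right]
      exact hj
  have hodd : Odd (Nat.card π.ker) := by
    rw [hπ, QuotientGroup.ker_mk']
    exact Nat.coprime_two_right.mp (Cores.pPrimeCore_coprime 2)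
  obtain ⟨lam, hlam, hlamB⟩ := exists_section π (by rw [hπ]; exact QuotientGroup.mk'_surjective _) hodd hH hB2 hBH
  have hDB : ∀ d (hd : d ∈ D), (⟨d, hDX hd⟩ : ↥X) ∈ B := by
    intro d hd
    rw [hB]
    exact mem_sup_left hd
  have haB : (⟨a, haX⟩ : ↥X) ∈ B := by
    rw [hB]
    exact mem_sup_right (mem_zpowers _)
  let κ' : ↥E →* ↥H :=
    { toFun := fun e => ⟨κ e, hκH e⟩
      map_one' := Subtype.ext (map_one κ)
      map_mul' := fun x y => Subtype.ext (map_mul κ x y) }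
  let ι : ↥E →* ↥X := lam.comp κ'
  have hι : ∀ e, ι e = lam ⟨κ e, hκH e⟩ := fun _ => rfl
  have hιπ : ∀ e, π (ι e) = κ e := fun e => hlam _
  have hla : lam ⟨π ⟨a, haX⟩, hBH _ haB⟩ = ⟨a, haX⟩ := hlamB _ haB
  have hιa : ∀ e, (⟨a, haX⟩ : ↥X) * ι e * ⟨a, haX⟩⁻¹ =
      lam (⟨π ⟨a, haX⟩, hBH _ haB⟩ * ⟨κ e, hκH e⟩ * ⟨π ⟨a, haX⟩, hBH _ haB⟩⁻¹) := by
    intro e
    rw [map_mul, map_mul, map_inv, hla]
    rfl
  refine ⟨X.subtype.comp ι, fun e => ?_, fun e e' => ?_, fun e => ?_, fun d hd e => ?_⟩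
  · obtain ⟨⟨k, hkX⟩, hk, hke⟩ := (hKb ▸ (hκ e).1 : κ e ∈ (K.subgroupOf X).map π)
    have h1 : k⁻¹ * (ι e : G) ∈ core X := by
      have h2 : π ⟨k, hkX⟩ = π (ι e) := by rw [hke, hιπ]
      rw [hπ] at h2
      exact mk_eq_mk_iff.mp h2
    obtain ⟨n, hn'⟩ := hD.to_le hED e
    have h2 : ((ι e : ↥X) : G) ^ 2 ^ n = 1 := by
      have h3 : ι e ^ 2 ^ n = 1 := by rw [← map_pow, hn', map_one]
      exact congrArg Subtype.val h3
    exact hK.mem_of_two hk h1 h2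
  · have h1 : ι e * (⟨a, haX⟩ * ι e' * ⟨a, haX⟩⁻¹) = (⟨a, haX⟩ * ι e' * ⟨a, haX⟩⁻¹) * ι e := by
      rw [hιa, hι, ← map_mul, ← map_mul]
      congr 1
      exact Subtype.ext (P.comm _ (hκ e).1 _ (hκ e').1)
    exact congrArg Subtype.val h1
  · have h1 : (⟨e, hEX e.2⟩ : ↥X) = ι e * (⟨a, haX⟩ * ι e * ⟨a, haX⟩⁻¹) := by
      rw [hιa, hι, ← map_mul, ← hlamB _ (hDB e (hED e.2))]
      congr 1
      exact Subtype.ext (hκ e).2
    exact congrArg Subtype.val h1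
  · have h1 : (⟨d, hDX hd⟩ : ↥X) * ι e * ⟨d, hDX hd⟩⁻¹ = ι ⟨d * e * d⁻¹, hn d hd e e.2⟩ := by
      have h2 := hlamB _ (hDB d hd)
      have h3 : (⟨d, hDX hd⟩ : ↥X) * ι e * ⟨d, hDX hd⟩⁻¹ =
          lam (⟨π ⟨d, hDX hd⟩, hBH _ (hDB d hd)⟩ * ⟨κ e, hκH e⟩ *
            ⟨π ⟨d, hDX hd⟩, hBH _ (hDB d hd)⟩⁻¹) := by
        rw [map_mul, map_mul, map_inv, h2]
        rfl
      rw [h3, hι]
      congr 1
      exact Subtype.ext (hκn d hd e)
    exact congrArg Subtype.val h1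

omit [Finite G] in
/-- `N_X(K) ∩ C(a)` normalizes the diagonal -/
theorem mem_normalizer_diag {u : G} (huX : u ∈ X) (hua : u * a = a * u) (hu : u ∈ normalizer (K : Set G)) :
    u ∈ normalizer (diag X K a : Set G) := by
  rw [mem_normalizer_iff_cj, cj_diag, cj_eq_self_of_mem huX, mem_normalizer_iff_cj.mp hu, hua,
    mul_inv_cancel_right]

/-- **`K / O(K) ≅ diag / O(diag)`** -/
theorem exists_iso (hK : IsComp X K) (hZ : center (↥K ⧸ oddCore ↥K) = ⊥) (haX : a ∈ X) (haa : a * a = 1)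
    (hne : cj a K ≠ K) :
    ∃ θ : (↥K ⧸ oddCore ↥K) ≃* (↥(diag X K a) ⧸ oddCore ↥(diag X K a)),
      (∀ k (hk : k ∈ K) m (hm : m ∈ diag X K a), m⁻¹ * (k * (a * k * a⁻¹)) ∈ core X →
        θ (QuotientGroup.mk ⟨k, hk⟩) = QuotientGroup.mk ⟨m, hm⟩) ∧
      ∀ u (_ : u ∈ X) (_ : u * a = a * u) (hu : u ∈ normalizer (K : Set G))
        (hu' : u ∈ normalizer (diag X K a : Set G)),
        MulAut.congr θ (act K ⟨u, hu⟩) = act (diag X K a) ⟨u, hu'⟩ := by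
  obtain ⟨h1, h2, h3, h4, f, hf, hker, hfm, -⟩ := exists_diag hK haX haa hne
  have hinj : Function.Injective f := by
    rw [← MonoidHom.ker_eq_bot_iff]
    exact le_bot_iff.mp (hker.trans hZ.le)
  refine ⟨MulEquiv.ofBijective f ⟨hinj, hf⟩, fun k hk m hm h => hfm ⟨k, hk⟩ ⟨m, hm⟩ h,
    fun u huX hua hu hu' => ?_⟩
  apply MulEquiv.ext
  intro y
  obtain ⟨y, rfl⟩ := hf y
  obtain ⟨⟨k, hk⟩, rfl⟩ := QuotientGroup.mk_surjective y
  obtain ⟨m, hm, hkm⟩ := h3 k hk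
  have e1 : f (QuotientGroup.mk ⟨k, hk⟩) = QuotientGroup.mk ⟨m, hm⟩ := hfm ⟨k, hk⟩ ⟨m, hm⟩ hkm
  have e2 : (MulEquiv.ofBijective f ⟨hinj, hf⟩).symm (f (QuotientGroup.mk ⟨k, hk⟩)) =
      QuotientGroup.mk ⟨k, hk⟩ := (MulEquiv.ofBijective f ⟨hinj, hf⟩).symm_apply_apply _
  change f (act K ⟨u, hu⟩ ((MulEquiv.ofBijective f ⟨hinj, hf⟩).symm (f (QuotientGroup.mk ⟨k, hk⟩)))) = _
  rw [e2, e1, act_mk hu hk, act_mk hu' hm]
  refine hfm ⟨u * k * u⁻¹, _⟩ ⟨u * m * u⁻¹, _⟩ ?_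
  change (u * m * u⁻¹)⁻¹ * (u * k * u⁻¹ * (a * (u * k * u⁻¹) * a⁻¹)) ∈ core X
  have e3 : (u * m * u⁻¹)⁻¹ * (u * k * u⁻¹ * (a * (u * k * u⁻¹) * a⁻¹)) =
      u * (m⁻¹ * (k * (a * k * a⁻¹))) * u⁻¹ := by
    have h5 : a * (u * k * u⁻¹) * a⁻¹ = u * (a * k * a⁻¹) * u⁻¹ := by
      calc a * (u * k * u⁻¹) * a⁻¹ = (a * u) * k * (a * u)⁻¹ := by group
        _ = (u * a) * k * (u * a)⁻¹ := by rw [hua]
        _ = _ := by group
    rw [h5]
    group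
  rw [e3]
  exact conj_core huX hkm

end split

end Cfsg.Agent.UGT.Q2K
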